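import Cfsg.Agent.Lib.GrossTwo.Plane
import Cfsg.Agent.Lib.ShultGross.Core

/-!
An odd group of operators normalised by a cyclic two-group, acting on a group of class two whose
distinguished central subgroup is the fixed subgroup of the involution, acts trivially modulo it.
-/

set_option autoImplicit false
set_option linter.unusedSectionVars false
set_option linter.style.haveILetI false
set_option maxHeartbeats 800000

namespace Cfsg.Agent.GrossTwo

open Module Finset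
open scoped commutatorElement
open Cfsg.Agent.Fpf (Inv Free fix)
open Cfsg.Agent.ShultGross
open Cfsg.Agent.ShultGross.Setup (pair)

universe u v w x

/-- The block theorem. -/
theorem block {K : Type u} [Field K] [IsAlgClosed K] {Q : Type v} [Group Q] [Finite Q]
    {A : Type x} [Group A] {V : Type w} [AddCommGroup V] [Module K V] [FiniteDimensional K V]
    {n : ℕ} (hn : 1 ≤ n) {s : A}
    (hsn : s ^ (2 ^ n) = 1) {q : ℕ} [hq : Fact q.Prime] (hQ : IsPGroup q Q) (hq2 : q ≠ 2)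
    (α : A →* MulAut Q) (Z : Subgroup Q) [Z.Normal] (hZi : Inv α Z)
    (hZc : Z ≤ Subgroup.center Q) (hcomZ : ∀ x w : Q, ⁅x, w⁆ ∈ Z) (hqpow : ∀ x : Q, x ^ q ∈ Z)
    (hsupp : ∀ u : Q, (∀ v : Q, ⁅u, v⁆ = 1) → u ∈ Z)
    (hF0 : fix α (s ^ (2 ^ (n - 1))) = Z)
    (ρ : Q →* Module.End K V) (hinj : Function.Injective ρ) (SK : A →* Module.End K V)
    (hc : ∀ a y, SK a * ρ y = ρ (α a y) * SK a)
    (hsum : ∑ i ∈ range (2 ^ n), SK (s ^ i) = 0) (hqK : (q : K) ≠ 0) (hpK : (2 : K) ≠ 0)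
    {D : Type*} [Group D] {r : ℕ} [Fact r.Prime] (hr2 : r ≠ 2) (hD : IsPGroup r D)
    (δ : D →* MulAut Q) (hδZ : ∀ c, ∀ z ∈ Z, δ c z = z)
    (hnorm : ∀ a c, ∃ c', α a * δ c = δ c' * α a) :
    ∀ x c, x⁻¹ * δ c x ∈ Z := by
  classical
  intro x0 c0'
  by_contra hnot
  generalize hp' : (2 : ℕ) = p at hsn hsum hF0
  have hp : p.Prime := hp' ▸ Nat.prime_two
  have hpK : (p : K) ≠ 0 := by rw [← hp']; exact_mod_cast hpK
  haveI := Fact.mk hp
  haveI := Fintype.ofFinite Q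
  set τ := s ^ (p ^ (n - 1)) with hτ
  have hpQ : ¬ p ∣ Nat.card Q := by
    obtain ⟨e, he⟩ := IsPGroup.iff_card.mp hQ
    rw [he]
    intro h
    exact hq2 (((Nat.prime_dvd_prime_iff_eq hp hq.out).mp (hp.dvd_of_dvd_pow h)).symm.trans hp'.symm)
  have hcz : ∀ z ∈ Z, ∀ g : Q, g * z = z * g := fun z hz g => Subgroup.mem_center_iff.mp (hZc hz) g
  have hcom_l : ∀ x y w : Q, ⁅x * y, w⁆ = ⁅y, w⁆ * ⁅x, w⁆ := fun x y w => by
    rw [show ⁅x * y, w⁆ = x * ⁅y, w⁆ * x⁻¹ * ⁅x, w⁆ by simp only [commutatorElement_def]; group,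
      hcz _ (hcomZ y w) x, mul_inv_cancel_right]
  have hcom_r : ∀ x y w : Q, ⁅x, y * w⁆ = ⁅x, y⁆ * ⁅x, w⁆ := fun x y w => by
    rw [show ⁅x, y * w⁆ = ⁅x, y⁆ * (y * ⁅x, w⁆ * y⁻¹) by simp only [commutatorElement_def]; group,
      hcz _ (hcomZ x w) y, mul_inv_cancel_right]
  have hτfix : ∀ x ∈ Z, α τ x = x := fun x hx => by
    have : x ∈ fix α τ := hF0.symm ▸ hx
    exact this
  have hτZ : ∀ y, y⁻¹ * α τ y ∈ Z → y ∈ Z := by
    intro y hy
    have hfix := hτfix _ hy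
    set c := y⁻¹ * α τ y with hcdef
    have hτy : α τ y = y * c := by rw [hcdef, mul_inv_cancel_left]
    have hpow : ∀ j : ℕ, α (τ ^ j) y = y * c ^ j := by
      intro j
      induction j with
      | zero => simp
      | succ j ih =>
        rw [pow_succ', map_mul, MulAut.mul_apply, ih, map_mul, hτy, map_pow, hfix, mul_assoc,
          ← pow_succ']
    have h1 := hpow p
    rw [hτ, ← pow_mul, ← pow_succ, Nat.sub_add_cancel hn, hsn, map_one, MulAut.one_apply,
      left_eq_mul] at h1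
    have hc1 : c = 1 := by
      rw [← orderOf_eq_one_iff]
      exact Nat.eq_one_of_dvd_coprimes (hp.coprime_iff_not_dvd.mpr hpQ)
        (orderOf_dvd_of_pow_eq_one h1) (_root_.orderOf_dvd_natCard c)
    rw [← hF0, Fpf.mem_fix, hτy, hc1, mul_one]
  have hfpfZ : ∀ i, i ≠ 0 → i < p ^ n → ∀ y, y⁻¹ * α (s ^ i) y ∈ Z → y ∈ Z := by
    intro i hi0 hi y hy
    refine hτZ y (QuotientGroup.eq.mp ?_)
    have h1 : Fpf.quot Z hZi (s ^ i) (y : Q ⧸ Z) = y := by
      rw [Fpf.quot_mk]; exact (QuotientGroup.eq.mpr hy).symm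
    exact (Fpf.fix_zpow _ h1 (tau_mem hp hsn hi0 hi)).symm
  set u0 := x0⁻¹ * δ c0' x0 with hu0def
  obtain ⟨v0, huv⟩ : ∃ v0 : Q, ⁅u0, v0⁆ ≠ 1 := by
    by_contra hcon
    push Not at hcon
    exact hnot (hsupp u0 hcon)
  set z0 := ⁅u0, v0⁆ with hz0
  have hcardQ : (Nat.card Q : K) ≠ 0 := by
    obtain ⟨e, he⟩ := IsPGroup.iff_card.mp hQ
    rw [he, Nat.cast_pow]
    exact pow_ne_zero _ hqK
  have hsubK : ∀ R : Subgroup Q, (Nat.card R : K) ≠ 0 := fun R h0 => hcardQ (by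
    rw [← R.card_mul_index, Nat.cast_mul, h0, zero_mul])
  set U := LinearMap.range (ρ z0 - 1)
  have hU0 : U ≠ ⊥ := by
    intro e
    rw [LinearMap.range_eq_bot, sub_eq_zero] at e
    exact huv (hinj (by rw [e, map_one]))
  have hUinv : ∀ u, ∀ v ∈ U, ρ u v ∈ U := by
    rintro u _ ⟨x, rfl⟩
    refine ⟨ρ u x, ?_⟩
    simp only [LinearMap.sub_apply, Module.End.one_apply, map_sub]
    rw [← Module.End.mul_apply, ← Module.End.mul_apply, ← map_mul, ← map_mul,
      hcz _ (hcomZ u0 v0) u]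
  obtain ⟨W1, ⟨hW1U, hW10, hW1inv⟩, hW1min'⟩ := WellFounded.has_min
    (wellFounded_lt (α := Submodule K V))
    {W | W ≤ U ∧ W ≠ ⊥ ∧ ∀ u, ∀ v ∈ W, ρ u v ∈ W} ⟨U, le_rfl, hU0, hUinv⟩
  have hW1min : ∀ W' : Submodule K V, W' ≤ W1 → W' ≠ ⊥ → (∀ u, ∀ v ∈ W', ρ u v ∈ W') → W' = W1 := by
    intro W' h1 h2 h3
    by_contra hne
    exact hW1min' W' ⟨h1.trans hW1U, h2, h3⟩ (lt_of_le_of_ne h1 hne)
  obtain ⟨w1, hw1, hw10⟩ := Submodule.exists_mem_ne_zero_of_ne_bot hW10
  have hscal : ∀ x : Q, (∀ u, ∀ v ∈ W1, ρ x (ρ u v) = ρ u (ρ x v)) →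
      ∃ c : K, ∀ v ∈ W1, ρ x v = c • v := fun x hx =>
    scalar_on_minimal ρ W1 hW10 hW1min hW1inv (ρ x) (hW1inv x) hx
  have hcancel : ∀ {a b : K}, a • w1 = b • w1 → a = b := fun h => smul_left_injective K hw10 h
  -- the central character
  have hex : ∀ z : Q, ∃ c : K, z ∈ Z → ∀ v ∈ W1, ρ z v = c • v := by
    intro z
    by_cases hz : z ∈ Z
    · obtain ⟨c, hc'⟩ := hscal z fun u v _ => by
        rw [← Module.End.mul_apply, ← Module.End.mul_apply, ← map_mul, ← map_mul, hcz z hz u]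
      exact ⟨c, fun _ => hc'⟩
    · exact ⟨0, fun h => absurd h hz⟩
  choose ζ hζ using hex
  have hζ1 : ζ 1 = 1 := hcancel (by
    rw [← hζ 1 (one_mem _) w1 hw1, map_one, Module.End.one_apply, one_smul])
  have hζmul : ∀ x ∈ Z, ∀ y ∈ Z, ζ (x * y) = ζ x * ζ y := fun x hx y hy => hcancel (by
    rw [← hζ _ (mul_mem hx hy) w1 hw1, map_mul, Module.End.mul_apply, hζ y hy w1 hw1, map_smul,
      hζ x hx w1 hw1, smul_smul, mul_comm])
  have hζpow : ∀ x ∈ Z, ∀ j : ℕ, ζ (x ^ j) = ζ x ^ j := by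
    intro x hx j
    induction j with
    | zero => rw [pow_zero, pow_zero, hζ1]
    | succ j ih => rw [pow_succ, hζmul _ (pow_mem hx j) _ hx, ih, pow_succ]
  set c0 := ζ z0 with hc0
  have hc0ne : c0 ≠ 1 := by
    intro e
    obtain ⟨x, hx⟩ := hW1U hw1
    have hx' : ρ z0 x = x + w1 := by
      rw [← hx, LinearMap.sub_apply, Module.End.one_apply]; abel
    have hfx : ρ z0 w1 = w1 := by rw [hζ z0 (hcomZ _ _) w1 hw1, ← hc0, e, one_smul]
    have hj : ∀ j : ℕ, (ρ z0 ^ j) x = x + j • w1 := by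
      intro j
      induction j with
      | zero => simp
      | succ j ih =>
        rw [pow_succ', Module.End.mul_apply, ih, map_add, map_nsmul, hx', hfx, succ_nsmul']
        abel
    have h1 := hj (Nat.card Q)
    rw [← map_pow, pow_card_eq_one', map_one, Module.End.one_apply, left_eq_add,
      ← Nat.cast_smul_eq_nsmul K, smul_eq_zero] at h1
    exact hw10 (h1.resolve_left hcardQ)
  -- its stabiliser
  let B : Subgroup A :=
    { carrier := {a | ∀ z ∈ Z, ζ (α a z) = ζ z}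
      one_mem' := fun z _ => by rw [map_one, MulAut.one_apply]
      mul_mem' := fun {a b} ha hb z hz => by
        rw [map_mul, MulAut.mul_apply, ha _ (hZi b z hz), hb z hz]
      inv_mem' := fun {a} ha z hz => by
        have h1 := ha _ (hZi a⁻¹ z hz)
        rw [← MulAut.mul_apply, ← map_mul, mul_inv_cancel, map_one, MulAut.one_apply] at h1
        exact h1.symm }
  have hτB : τ ∈ B := fun z hz => by rw [hτfix z hz]
  obtain ⟨k, hkn, hkB, hkdvd⟩ := exists_level hp hn hsn B hτB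
  set m := n - k with hm
  have hm1 : 1 ≤ m := by omega
  have hkm : p ^ n = p ^ k * p ^ m := by rw [← pow_add]; congr 1; omega
  set N := p ^ m with hNdef
  have hpk0 : 0 < p ^ k := pow_pos hp.pos k
  set a1 := s ^ (p ^ k) with ha1
  have ha1N : a1 ^ N = 1 := by rw [ha1, ← pow_mul, ← hkm, hsn]
  have hτa1 : τ ∈ Subgroup.zpowers a1 := by
    rw [hτ, show p ^ (n - 1) = p ^ k * p ^ (n - 1 - k) by rw [← pow_add]; congr 1; omega, pow_mul]
    exact Subgroup.npow_mem_zpowers _ _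
  -- eigenvectors of the centre
  have hsum1 : ∀ v : V, (∀ z ∈ Z, ρ z v = ζ z • v) → ∑ j ∈ range N, SK (a1 ^ j) v = 0 := by
    intro v hv
    have h0 : ∑ i ∈ range (p ^ n), SK (s ^ i) v = 0 := by
      rw [← LinearMap.sum_apply, hsum, LinearMap.zero_apply]
    have h1 := select α ρ SK hc Z ζ hζmul hζ1 (hsubK Z) (range (p ^ n)) (fun i => s ^ i)
      (fun i _ x hx => hZi _ x hx) hv h0 (fun i => p ^ k ∣ i) (fun i hi => by
        constructor
        · rintro ⟨j, rfl⟩ x hx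
          exact B.inv_mem (by rw [pow_mul]; exact pow_mem hkB j) x hx
        · intro h
          exact hkdvd i (Finset.mem_range.mp hi) (inv_mem_iff.mp (show (s ^ i)⁻¹ ∈ B from h)))
    have himg : (range (p ^ n)).filter (fun i => p ^ k ∣ i) =
        (range N).image (fun j => p ^ k * j) := by
      ext i
      simp only [Finset.mem_filter, Finset.mem_range, Finset.mem_image]
      constructor
      · rintro ⟨hi, j, rfl⟩
        exact ⟨j, Nat.lt_of_mul_lt_mul_left (hkm ▸ hi), rfl⟩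
      · rintro ⟨j, hj, rfl⟩
        exact ⟨hkm ▸ Nat.mul_lt_mul_of_pos_left hj hpk0, dvd_mul_right _ _⟩
    rw [himg, Finset.sum_image fun x _ y _ e => Nat.eq_of_mul_eq_mul_left hpk0 e] at h1
    rw [← h1]
    exact Finset.sum_congr rfl fun j _ => by rw [ha1, ← pow_mul]
  -- the radical
  let Z1 : Subgroup Q :=
    { carrier := {x | ∀ w, ζ ⁅x, w⁆ = 1}
      one_mem' := fun w => by rw [commutatorElement_one_left, hζ1]
      mul_mem' := fun {x y} hx hy w => by
        rw [hcom_l, hζmul _ (hcomZ _ _) _ (hcomZ _ _), hx w, hy w, one_mul]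
      inv_mem' := fun {x} hx w => by
        have h1 := hcom_l x⁻¹ x w
        rw [inv_mul_cancel, commutatorElement_one_left] at h1
        have h2 := congrArg ζ h1
        rw [hζ1, hζmul _ (hcomZ _ _) _ (hcomZ _ _), hx w, one_mul] at h2
        exact h2.symm }
  have hZ1 : ∀ {x}, x ∈ Z1 ↔ ∀ w, ζ ⁅x, w⁆ = 1 := Iff.rfl
  have hZle : Z ≤ Z1 := fun z hz => hZ1.mpr fun w => by
    rw [commutatorElement_eq_one_iff_mul_comm.mpr (hcz z hz w).symm, hζ1]
  haveI hZ1n : Z1.Normal := ⟨fun x hx g => by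
    rw [show g * x * g⁻¹ = ⁅g, x⁆ * x by simp only [commutatorElement_def]; group]
    exact Z1.mul_mem (hZle (hcomZ _ _)) hx⟩
  have hswap : ∀ u w : Q, ζ ⁅u, w⁆ * ζ ⁅w, u⁆ = 1 := fun u w => by
    rw [← hζmul _ (hcomZ _ _) _ (hcomZ _ _), ← commutatorElement_inv w u, inv_mul_cancel, hζ1]
  have hZ1r : ∀ x ∈ Z1, ∀ w, ζ ⁅w, x⁆ = 1 := fun x hx w => by
    have h1 := hswap w x
    rwa [hZ1.mp hx w, mul_one] at h1
  have hZ1B : ∀ b ∈ B, ∀ x ∈ Z1, α b x ∈ Z1 := fun b hb x hx => hZ1.mpr fun w => by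
    have h1 : w = α b (α b⁻¹ w) := by
      rw [← MulAut.mul_apply, ← map_mul, mul_inv_cancel, map_one, MulAut.one_apply]
    rw [h1, ← map_commutatorElement, hb _ (hcomZ _ _)]
    exact hZ1.mp hx _
  have hu0 : u0 ∉ Z1 := fun h => hc0ne (hZ1.mp h v0)
  have hZ1top : Z1 ≠ ⊤ := fun h => hu0 (h ▸ Subgroup.mem_top _)
  have hsurj : ∀ i, i ≠ 0 → i < p ^ n → s ^ i ∈ B → ∀ z ∈ Z1,
      ∃ w ∈ Z1, (w⁻¹ * α (s ^ i) w)⁻¹ * z ∈ Z := by
    intro i hi0 hi hiB z hz
    let R : Subgroup (Q ⧸ Z) := Z1.map (QuotientGroup.mk' Z)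
    let f : R → R := fun x => ⟨(x : Q ⧸ Z)⁻¹ * Fpf.quot Z hZi (s ^ i) x, by
      obtain ⟨w, hw, hwx⟩ := x.2
      rw [← hwx]
      exact ⟨w⁻¹ * α (s ^ i) w, mul_mem (inv_mem hw) (hZ1B _ hiB w hw), map_mul _ _ _⟩⟩
    have hfinj : Function.Injective f := by
      rintro ⟨x, hx⟩ ⟨y, hy⟩ e
      have e' := congrArg Subtype.val e
      obtain ⟨x, rfl⟩ := QuotientGroup.mk_surjective x
      obtain ⟨y, rfl⟩ := QuotientGroup.mk_surjective y
      apply Subtype.ext
      show (x : Q ⧸ Z) = y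
      have e2 : Fpf.quot Z hZi (s ^ i) ((x * y⁻¹ : Q) : Q ⧸ Z) = ((x * y⁻¹ : Q) : Q ⧸ Z) := by
        have e'' : (x : Q ⧸ Z)⁻¹ * Fpf.quot Z hZi (s ^ i) x =
            (y : Q ⧸ Z)⁻¹ * Fpf.quot Z hZi (s ^ i) y := e'
        rw [inv_mul_eq_iff_eq_mul] at e''
        rw [QuotientGroup.mk_mul, QuotientGroup.mk_inv, map_mul, map_inv, e'',
          mul_assoc (x : Q ⧸ Z), mul_inv_cancel_right]
      rw [Fpf.quot_mk] at e2
      have h2 := hfpfZ i hi0 hi _ (QuotientGroup.eq.mp e2.symm)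
      rw [← (QuotientGroup.eq_one_iff (N := Z) _), QuotientGroup.mk_mul, QuotientGroup.mk_inv,
        mul_inv_eq_one] at h2
      exact h2
    obtain ⟨⟨w', hw'⟩, hfw⟩ := Finite.injective_iff_surjective.mp hfinj
      ⟨(z : Q ⧸ Z), ⟨z, hz, rfl⟩⟩
    obtain ⟨w, hw, rfl⟩ := hw'
    exact ⟨w, hw, QuotientGroup.eq.mp (congrArg Subtype.val hfw)⟩
  have hcommE : ∀ x ∈ Z1, ∀ u, ∀ v : V, (∀ z ∈ Z, ρ z v = ζ z • v) →
      ρ x (ρ u v) = ρ u (ρ x v) := by
    intro x hx u v hv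
    rw [← Module.End.mul_apply, ← Module.End.mul_apply, ← map_mul, ← map_mul,
      show x * u = u * x * ⁅x⁻¹, u⁻¹⁆ by simp only [commutatorElement_def]; group, map_mul,
      Module.End.mul_apply, hv _ (hcomZ _ _), hZ1.mp (Z1.inv_mem hx), one_smul]
  have hexχ : ∀ x : Q, ∃ c : K, x ∈ Z1 → ∀ v ∈ W1, ρ x v = c • v := by
    intro x
    by_cases hx : x ∈ Z1
    · obtain ⟨c, hc'⟩ := hscal x fun u v hv => hcommE x hx u v fun z hz => hζ z hz v hv
      exact ⟨c, fun _ => hc'⟩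
    · exact ⟨0, fun h => absurd h hx⟩
  choose χ hχ using hexχ
  have hχZ : ∀ z ∈ Z, χ z = ζ z := fun z hz => hcancel (by
    rw [← hχ z (hZle hz) w1 hw1, hζ z hz w1 hw1])
  have hχmul : ∀ x ∈ Z1, ∀ y ∈ Z1, χ (x * y) = χ x * χ y := fun x hx y hy => hcancel (by
    rw [← hχ _ (mul_mem hx hy) w1 hw1, map_mul, Module.End.mul_apply, hχ y hy w1 hw1, map_smul,
      hχ x hx w1 hw1, smul_smul, mul_comm])
  have hχ1 : χ 1 = 1 := by rw [hχZ 1 (one_mem _), hζ1]
  let B1 : Subgroup A :=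
    { carrier := {a | a ∈ B ∧ ∀ x ∈ Z1, χ (α a x) = χ x}
      one_mem' := ⟨B.one_mem, fun z _ => by rw [map_one, MulAut.one_apply]⟩
      mul_mem' := fun {a b} ha hb => ⟨B.mul_mem ha.1 hb.1, fun z hz => by
        rw [map_mul, MulAut.mul_apply, ha.2 _ (hZ1B b hb.1 z hz), hb.2 z hz]⟩
      inv_mem' := fun {a} ha => ⟨B.inv_mem ha.1, fun z hz => by
        have h1 := ha.2 _ (hZ1B a⁻¹ (B.inv_mem ha.1) z hz)
        rw [← MulAut.mul_apply, ← map_mul, mul_inv_cancel, map_one, MulAut.one_apply] at h1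
        exact h1.symm⟩ }
  have hτB1 : τ ∈ B1 := by
    by_contra hτn
    have hv : ∀ z ∈ Z, ρ z w1 = ζ z • w1 := fun z hz => hζ z hz w1 hw1
    have h1 := select α ρ SK hc Z1 χ hχmul hχ1 (hsubK Z1) (range N) (fun j => a1 ^ j)
      (fun j _ x hx => hZ1B _ (B.inv_mem (pow_mem hkB j)) x hx) (fun x hx => hχ x hx w1 hw1)
      (hsum1 w1 hv) (fun j => j = 0) (fun j hj => by
        constructor
        · rintro rfl x _
          rw [pow_zero, inv_one, map_one, MulAut.one_apply]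
        · intro h
          by_contra hj0
          apply hτn
          have hmem : (a1 ^ j)⁻¹ ∈ B1 := ⟨B.inv_mem (pow_mem hkB j), h⟩
          have hlt : p ^ k * j < p ^ n :=
            hkm ▸ Nat.mul_lt_mul_of_pos_left (Finset.mem_range.mp hj) hpk0
          have h2 := tau_mem hp hsn (Nat.mul_ne_zero hpk0.ne' hj0) hlt
          rw [pow_mul, ← ha1] at h2
          exact (Subgroup.zpowers_le.mpr (inv_mem_iff.mp hmem)) h2)
    rw [Finset.filter_eq', if_pos (Finset.mem_range.mpr (pow_pos hp.pos m)),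
      Finset.sum_singleton, pow_zero, map_one, Module.End.one_apply] at h1
    exact hw10 h1
  have hχa1 : ∀ x ∈ Z1, χ (α a1 x) = χ x := by
    intro x hx
    obtain ⟨w, hw, hwx⟩ := hsurj (p ^ (n - 1)) (pow_pos hp.pos _).ne'
      (Nat.pow_lt_pow_right hp.one_lt (by omega)) hτB x hx
    set c := (w⁻¹ * α τ w)⁻¹ * x with hcdef
    have hx' : x = w⁻¹ * α τ w * c := by rw [hcdef, mul_inv_cancel_left]
    have hval : ∀ y ∈ Z1, χ (y⁻¹ * α τ y) = 1 := fun y hy => by
      rw [hχmul _ (inv_mem hy) _ (hZ1B τ hτB y hy), hτB1.2 y hy, ← hχmul _ (inv_mem hy) _ hy,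
        inv_mul_cancel, hχ1]
    have hwm : w⁻¹ * α τ w ∈ Z1 := mul_mem (inv_mem hw) (hZ1B τ hτB w hw)
    have hcomm : α a1 (α τ w) = α τ (α a1 w) := by
      rw [← MulAut.mul_apply, ← MulAut.mul_apply, ← map_mul, ← map_mul, hτ, ha1, ← pow_add,
        ← pow_add, add_comm]
    conv_lhs => rw [hx', map_mul, map_mul, map_inv, hcomm]
    have hw' := hZ1B a1 hkB w hw
    rw [hχmul _ (mul_mem (inv_mem hw') (hZ1B τ hτB _ hw')) _ (hZle (hZi a1 c hwx)), hval _ hw',
      hχZ _ (hZi a1 c hwx), hkB c hwx, hx', hχmul _ hwm _ (hZle hwx), hval w hw, hχZ c hwx]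
  have ha1B1 : a1 ∈ B1 := ⟨hkB, hχa1⟩
  -- the eigenspace of the radical
  let V1 : Submodule K V :=
    { carrier := {v | ∀ x ∈ Z1, ρ x v = χ x • v}
      add_mem' := fun {a b} ha hb x hx => by rw [map_add, ha x hx, hb x hx, smul_add]
      zero_mem' := fun x _ => by rw [map_zero, smul_zero]
      smul_mem' := fun c v hv x hx => by rw [map_smul, hv x hx, smul_comm] }
  have hV1Z : ∀ v ∈ V1, ∀ z ∈ Z, ρ z v = ζ z • v := fun v hv z hz => by
    rw [hv z (hZle hz), hχZ z hz]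
  have hV1Q : ∀ u, ∀ v ∈ V1, ρ u v ∈ V1 := fun u v hv x hx => by
    rw [hcommE x hx u v (hV1Z v hv), hv x hx, map_smul]
  have hV1S : ∀ v ∈ V1, SK a1 v ∈ V1 := by
    intro v hv x hx
    have h2 := LinearMap.congr_fun (hc a1 (α a1⁻¹ x)) v
    rw [← MulAut.mul_apply, ← map_mul, mul_inv_cancel, map_one, MulAut.one_apply,
      Module.End.mul_apply, Module.End.mul_apply, hv _ (hZ1B _ (B.inv_mem hkB) x hx), map_smul] at h2
    rw [← h2, (B1.inv_mem ha1B1).2 x hx]
  haveI : Nontrivial V1 := Submodule.nontrivial_iff_ne_bot.mpr fun e => hw10 <|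
    (Submodule.eq_bot_iff _).mp e w1 fun x hx => hχ x hx w1 hw1
  let ρ1 : Q →* Module.End K V1 :=
    { toFun := fun u => (ρ u).restrict (hV1Q u)
      map_one' := LinearMap.ext fun v => Subtype.ext (by
        show ρ 1 v.1 = v.1
        rw [map_one, Module.End.one_apply])
      map_mul' := fun u u' => LinearMap.ext fun v => Subtype.ext (by
        show ρ (u * u') v.1 = ρ u (ρ u' v.1)
        rw [map_mul, Module.End.mul_apply]) }
  let S1 : Module.End K V1 := (SK a1).restrict hV1S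
  have hS1 : ∀ (j : ℕ) (v : V1), ((S1 ^ j) v : V) = SK (a1 ^ j) (v : V) := by
    intro j
    induction j with
    | zero =>
      intro v
      rw [pow_zero, pow_zero, map_one]
      rfl
    | succ j ih =>
      intro v
      rw [pow_succ', pow_succ', Module.End.mul_apply, map_mul, Module.End.mul_apply, ← ih]
      rfl
  have hinvZ1 : ∀ z, α a1 z ∈ Z1 ↔ z ∈ Z1 := fun z => by
    refine ⟨fun h => ?_, hZ1B a1 hkB z⟩
    have h1 := hZ1B _ (B.inv_mem hkB) _ h
    rwa [← MulAut.mul_apply, ← map_mul, inv_mul_cancel, map_one, MulAut.one_apply] at h1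
  have hset : Setup ρ1 Z1 χ (α a1) S1 N :=
    { comm_mem := fun w u => hZle (hcomZ w u)
      scalar := fun z hz => LinearMap.ext fun v => Subtype.ext (v.2 z hz)
      chi_inv := hχa1
      inv := hinvZ1
      nondeg := fun u hu => by
        by_contra hcon
        push Not at hcon
        refine hu (hZ1.mpr fun w => ?_)
        have h1 := hswap u w
        rwa [show ζ ⁅w, u⁆ = 1 by rw [← hχZ _ (hcomZ w u)]; exact hcon w, mul_one] at h1
      fpf := fun j hj0 hj u hu => by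
        rw [← map_pow, ha1, ← pow_mul] at hu
        have hlt : p ^ k * j < p ^ n := hkm ▸ Nat.mul_lt_mul_of_pos_left hj hpk0
        have hne : p ^ k * j ≠ 0 := Nat.mul_ne_zero hpk0.ne' (by omega)
        have hiB : s ^ (p ^ k * j) ∈ B := by rw [pow_mul]; exact pow_mem hkB j
        obtain ⟨w, hw, hwx⟩ := hsurj _ hne hlt hiB _ hu
        have h1 : u * w⁻¹ ∈ Z := by
          refine hfpfZ _ hne hlt _ ?_
          rw [← QuotientGroup.eq_one_iff] at hwx ⊢
          rw [map_mul, map_inv]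
          simp only [QuotientGroup.mk_mul, QuotientGroup.mk_inv] at hwx ⊢
          have hab : ∀ x y : Q ⧸ Z, x * y = y * x := fun x y => by
            obtain ⟨x, rfl⟩ := QuotientGroup.mk_surjective x
            obtain ⟨y, rfl⟩ := QuotientGroup.mk_surjective y
            rw [← commutatorElement_eq_one_iff_mul_comm, ← QuotientGroup.mk'_apply,
              ← QuotientGroup.mk'_apply, ← map_commutatorElement, QuotientGroup.mk'_apply,
              QuotientGroup.eq_one_iff]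
            exact hcomZ x y
          rw [← hwx]
          have hlc : ∀ x y z : Q ⧸ Z, x * (y * z) = y * (x * z) := fun x y z => by
            rw [← mul_assoc, hab x y, mul_assoc]
          simp only [mul_inv_rev, inv_inv, mul_assoc, hab, hlc]
        have h2 := Z1.mul_mem (hZle h1) hw
        rwa [inv_mul_cancel_right] at h2
      apow := by rw [← map_pow, ha1N, map_one]
      compat := fun u => LinearMap.ext fun v => Subtype.ext (LinearMap.congr_fun (hc a1 u) v.1)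
      spow := LinearMap.ext fun v => Subtype.ext (by rw [hS1, ha1N, map_one]; rfl)
      ssum := LinearMap.ext fun v => Subtype.ext (by
        rw [LinearMap.sum_apply, AddSubmonoidClass.coe_finsetSum]
        simp only [hS1]
        rw [hsum1 _ (hV1Z v.1 v.2)]
        rfl)
      cardQ := hcardQ
      cardN := by rw [hNdef, Nat.cast_pow]; exact pow_ne_zero _ hpK
      one_lt := Nat.one_lt_pow (by omega) hp.one_lt }
  obtain ⟨d, t, hd2, hdN, hdt, hidx, hdt1⟩ := hset.degree_strong hZ1top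
  obtain ⟨e, he⟩ := hQ.index Z1
  rw [hNdef, ← hp'] at hdN hdt
  obtain ⟨rfl, hqm, hm2⟩ := degree_two hq.out hq2 hd2 hdN hdt hdt1 (hidx.symm.trans he)
  -- the operators on the section
  have hδZ1 : Inv δ Z1 := fun c x hx => hZ1.mpr fun w => by
    have h1 : w = δ c (δ c⁻¹ w) := by
      rw [← MulAut.mul_apply, ← map_mul, mul_inv_cancel, map_one, MulAut.one_apply]
    rw [h1, ← map_commutatorElement, hδZ c _ (hcomZ _ _)]
    exact hZ1.mp hx _
  have hwd : Z1.map (α a1).toMonoidHom = Z1 := by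
    refine le_antisymm ?_ fun z hz => ⟨(α a1).symm z, ?_, (α a1).apply_symm_apply z⟩
    · rintro _ ⟨z, hz, rfl⟩; exact (hinvZ1 z).mpr hz
    · exact (hinvZ1 _).mp (by rwa [(α a1).apply_symm_apply])
  letI : CommGroup (Q ⧸ Z1) := { (inferInstance : Group (Q ⧸ Z1)) with
    mul_comm := fun x y => by
      obtain ⟨x, rfl⟩ := QuotientGroup.mk_surjective x
      obtain ⟨y, rfl⟩ := QuotientGroup.mk_surjective y
      rw [← commutatorElement_eq_one_iff_mul_comm, ← QuotientGroup.mk'_apply,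
        ← QuotientGroup.mk'_apply, ← map_commutatorElement, QuotientGroup.mk'_apply,
        QuotientGroup.eq_one_iff]
      exact hZle (hcomZ x y) }
  set ab : MulAut (Q ⧸ Z1) := QuotientGroup.congr Z1 Z1 (α a1) hwd with hab
  have habmk : ∀ u : Q, ab (u : Q ⧸ Z1) = ((α a1 u : Q) : Q ⧸ Z1) := fun u => rfl
  have habpow : ∀ (j : ℕ) (u : Q), (ab ^ j) (u : Q ⧸ Z1) = (((α a1 ^ j) u : Q) : Q ⧸ Z1) := by
    intro j
    induction j with
    | zero => intro u; rfl
    | succ j ih => intro u; rw [pow_succ, pow_succ, MulAut.mul_apply, habmk, ih]; rfl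
  let δb := Fpf.quot Z1 hδZ1
  have hsc : ∀ u w : Q, pair χ u w = ζ ⁅u, w⁆ := fun u w => hχZ _ (hcomZ u w)
  let Bf : Q ⧸ Z1 → Q ⧸ Z1 → K := fun x y => pair χ x.out y.out
  have hBmk : ∀ u w : Q, Bf (u : Q ⧸ Z1) (w : Q ⧸ Z1) = pair χ u w := by
    intro u w
    have eu : u = (u : Q ⧸ Z1).out * (((u : Q ⧸ Z1).out)⁻¹ * u) := (mul_inv_cancel_left _ _).symm
    have ew : w = (w : Q ⧸ Z1).out * (((w : Q ⧸ Z1).out)⁻¹ * w) := (mul_inv_cancel_left _ _).symm
    conv_rhs => rw [eu, hset.pair_mul_left, hset.pair_left_Z (hset.out_inv_mul_mem u), mul_one,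
      ew, hset.pair_mul_right, hset.pair_right_Z (hset.out_inv_mul_mem w), mul_one]
  have hplane := plane (q := d) (m := m) (r := r) hr2 (V := Q ⧸ Z1)
    (by rw [← Subgroup.index, hidx, pow_two])
    (fun x => by
      obtain ⟨x, rfl⟩ := QuotientGroup.mk_surjective x
      rw [← QuotientGroup.mk_pow, QuotientGroup.eq_one_iff]
      exact hZle (hqpow x))
    hqm hm2 ab
    (MulEquiv.ext fun x => by
      rw [← QuotientGroup.out_eq' x, habpow, ← map_pow, show a1 ^ (2 ^ m) = 1 by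
        rw [hp']; exact ha1N, map_one]
      rfl)
    (fun j h0 hj x hx => by
      obtain ⟨u, rfl⟩ := QuotientGroup.mk_surjective x
      rw [habpow] at hx
      refine (QuotientGroup.eq_one_iff _).mpr (hset.fpf j h0 ?_ u (QuotientGroup.eq.mp hx.symm))
      rw [hNdef, ← hp']; exact hj)
    δb.range (hD.of_surjective δb.rangeRestrict δb.rangeRestrict_surjective)
    (by
      rintro _ ⟨c, rfl⟩
      obtain ⟨c', hc'⟩ := hnorm a1⁻¹ c
      refine ⟨c', MulEquiv.ext fun x => ab.injective ?_⟩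
      obtain ⟨u, rfl⟩ := QuotientGroup.mk_surjective x
      have hinv : ∀ z, α a1⁻¹ (α a1 z) = z := fun z => by
        rw [← MulAut.mul_apply, ← map_mul, inv_mul_cancel, map_one, MulAut.one_apply]
      have e1 := DFunLike.congr_fun hc' (α a1 u)
      rw [MulAut.mul_apply, MulAut.mul_apply, hinv] at e1
      rw [MulAut.mul_apply, MulAut.mul_apply, MulAut.inv_apply, MulEquiv.apply_symm_apply]
      show ab (δb c' (u : Q ⧸ Z1)) = δb c (ab (u : Q ⧸ Z1))
      rw [Fpf.quot_mk, habmk, habmk, Fpf.quot_mk, ← e1, ← MulAut.mul_apply, ← map_mul,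
        mul_inv_cancel, map_one, MulAut.one_apply])
    Bf
    (by
      intro x x' y
      obtain ⟨x, rfl⟩ := QuotientGroup.mk_surjective x
      obtain ⟨x', rfl⟩ := QuotientGroup.mk_surjective x'
      obtain ⟨y, rfl⟩ := QuotientGroup.mk_surjective y
      rw [← QuotientGroup.mk_mul, hBmk, hBmk, hBmk, hset.pair_mul_left])
    (by
      intro x y y'
      obtain ⟨x, rfl⟩ := QuotientGroup.mk_surjective x
      obtain ⟨y, rfl⟩ := QuotientGroup.mk_surjective y
      obtain ⟨y', rfl⟩ := QuotientGroup.mk_surjective y'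
      rw [← QuotientGroup.mk_mul, hBmk, hBmk, hBmk, hset.pair_mul_right])
    (by
      intro x
      obtain ⟨x, rfl⟩ := QuotientGroup.mk_surjective x
      rw [← QuotientGroup.mk_one, hBmk, hBmk]
      exact ⟨hset.pair_one_right x, hset.pair_one_left x⟩)
    (by
      intro x
      obtain ⟨x, rfl⟩ := QuotientGroup.mk_surjective x
      rw [hBmk, hsc, commutatorElement_self, hζ1])
    (by
      intro x hx
      obtain ⟨x, rfl⟩ := QuotientGroup.mk_surjective x
      by_contra hcon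
      push Not at hcon
      refine hx ((QuotientGroup.eq_one_iff x).mpr (hZ1.mpr fun w => ?_))
      rw [← hsc, ← hBmk]
      exact hcon _)
    (by
      rintro _ ⟨c, rfl⟩ x y
      obtain ⟨x, rfl⟩ := QuotientGroup.mk_surjective x
      obtain ⟨y, rfl⟩ := QuotientGroup.mk_surjective y
      rw [Fpf.quot_mk, Fpf.quot_mk, hBmk, hBmk, hsc, hsc, ← map_commutatorElement,
        hδZ c _ (hcomZ _ _)])
  refine hu0 ?_
  have h1 := DFunLike.congr_fun (hplane (δb c0') ⟨c0', rfl⟩) (x0 : Q ⧸ Z1)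
  rw [Fpf.quot_mk, MulAut.one_apply] at h1
  exact QuotientGroup.eq.mp h1.symm

end Cfsg.Agent.GrossTwo
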