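import Cfsg.Agent.Lib.GrossTwo.Move

/-!
A solvable group with a fixed-point-free cyclic two-group of operators: the involution moves every
element into the second Fitting subgroup.
-/

set_option autoImplicit false
set_option linter.unusedSectionVars false
set_option linter.style.haveILetI false

namespace Cfsg.Agent.GrossTwo

open Cfsg
open scoped IsMulCommutative Pointwise
open Cfsg.Agent.Fpf (Inv Free fix Compat)
open Cfsg.Agent.ShultGross (comm_of_gen isPGroup_gen)

universe u

variable {A : Type u} [Group A] {s : A} {n : ℕ}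

theorem sylow_normal {F : Type u} [Group F] [Finite F] [Group.IsNilpotent F] {q : ℕ} [Fact q.Prime]
    (Q : Sylow q F) : (Q : Subgroup F).Normal := by
  have hiff : Group.IsNilpotent F ↔
      ∀ (q : ℕ) (_ : Fact q.Prime) (P : Sylow q F), (P : Subgroup F).Normal :=
    (Group.isNilpotent_of_finite_tfae (G := F)).out 0 3
  exact hiff.mp inferInstance q inferInstance Q

/-- An involution fixing the Fitting subgroup pointwise is trivial on a solvable group of odd order. -/
theorem trivial_of_fix_fitting {G : Type u} [Group G] [Finite G] [Group.IsSolvable G]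
    (φ : A →* MulAut G) {t : A} (ht : t ^ 2 = 1) (hodd : ¬ 2 ∣ Nat.card G)
    (hfix : ∀ f ∈ fittingSubgroup G, φ t f = f) (y : G) : φ t y = y := by
  set c := y⁻¹ * φ t y with hcdef
  have hcC : c ∈ Subgroup.centralizer (fittingSubgroup G : Set G) := by
    rw [Subgroup.mem_centralizer_iff]
    intro f hf'
    have h1 : y * f * y⁻¹ ∈ fittingSubgroup G :=
      (inferInstance : (fittingSubgroup G).Normal).conj_mem f hf' y
    have h2 := hfix _ h1
    rw [map_mul, map_mul, map_inv, hfix f hf'] at h2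
    have h3 : y⁻¹ * (φ t y * f * (φ t y)⁻¹) * φ t y = y⁻¹ * (y * f * y⁻¹) * φ t y := by rw [h2]
    rw [hcdef]
    simpa [mul_assoc] using h3.symm
  exact fixed_of_move φ ht hodd (hfix c (Basics.centralizer_fittingSubgroup_le hcC))

/-- The movements lie in the Fitting subgroup of an irreducible linear image. -/
theorem move_mem_quot (hn : 1 ≤ n) (hs : ∀ a : A, a ∈ Subgroup.zpowers s)
    (hsn : s ^ (2 ^ n) = 1) {G : Type u} [Group G] [Finite G] [Group.IsSolvable G]
    (φ : A →* MulAut G) (hf : Free φ) (V : Subgroup G) [V.Normal] [IsMulCommutative V]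
    (hi : Inv φ V) (hne : V ≠ ⊥) {r0 : ℕ} [Fact r0.Prime] (hexp : ∀ x ∈ V, x ^ r0 = 1)
    (hmin : ∀ W : Subgroup G, W.Normal → Inv φ W → W ≤ V → W = ⊥ ∨ W = V) :
    ∀ y : G ⧸ Subgroup.centralizer (V : Set G), y⁻¹ * Fpf.quot (Subgroup.centralizer (V : Set G)) hi.centralizer (s ^ (2 ^ (n - 1))) y ∈
      fittingSubgroup (G ⧸ Subgroup.centralizer (V : Set G)) := by
  haveI := Fact.mk Nat.prime_two
  have hA := isPGroup_gen hs hsn
  set τ := s ^ (2 ^ (n - 1)) with hτ
  set C := Subgroup.centralizer (V : Set G) with hC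
  set ψ := Fpf.quot C hi.centralizer with hψ
  have hψf : Free ψ := hf.quot hA C hi.centralizer
  set F := fittingSubgroup (G ⧸ C) with hF
  have hFi : Inv ψ F := Fpf.inv_char ψ F
  set ψY := Fpf.quot F hFi with hψY
  have hψYf : Free ψY := hψf.quot hA F hFi
  set E := fittingSubgroup ((G ⧸ C) ⧸ F) with hE
  have hEi : Inv ψY E := Fpf.inv_char ψY E
  intro y
  suffices hfixE : ∀ f ∈ E, ψY τ f = f by
    have h1 := trivial_of_fix_fitting ψY (tau_sq hn hsn) (hψYf.not_dvd_card hA) hfixE
      (y : (G ⧸ C) ⧸ F)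
    rw [hψY, Fpf.quot_mk, eq_comm, QuotientGroup.eq] at h1
    exact h1
  let H : Subgroup E := (fix ψY τ).subgroupOf E
  suffices hH : H = ⊤ by
    intro f hf'
    have : (⟨f, hf'⟩ : E) ∈ H := by rw [hH]; trivial
    exact Subgroup.mem_subgroupOf.mp this
  refine Subgroup.eq_top_of_card_eq H (Nat.dvd_antisymm H.card_subgroup_dvd_card ?_)
  refine (Nat.dvd_iff_prime_pow_dvd_dvd _ _).mpr fun r e hr hd => ?_
  rcases Nat.eq_zero_or_pos e with rfl | he
  · simp
  haveI := Fact.mk hr
  have hrE : r ∣ Nat.card E := (dvd_pow_self r he.ne').trans hd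
  have hr2 : r ≠ 2 := fun h => hψYf.not_dvd_card hA
    ((h ▸ hrE : 2 ∣ Nat.card E).trans E.card_subgroup_dvd_card)
  obtain ⟨P⟩ : Nonempty (Sylow r E) := Sylow.nonempty
  haveI : Group.IsNilpotent E := inferInstance
  haveI := Sylow.characteristic_of_normal P (sylow_normal P)
  suffices hPH : (P : Subgroup E) ≤ H by
    refine dvd_trans ?_ (Subgroup.card_dvd_of_le hPH)
    rw [P.card_eq_multiplicity]
    exact pow_dvd_pow r ((hr.pow_dvd_iff_le_factorization Nat.card_pos.ne').mp hd)
  haveI hEn : E.Normal := inferInstance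
  set P' := (P : Subgroup E).map E.subtype with hP'
  haveI : P'.Normal := by rw [hP']; infer_instance
  have hP'p : IsPGroup r P' := P.isPGroup'.map _
  have hP'i : Inv ψY P' := by
    rintro a _ ⟨x, hx, rfl⟩
    exact ⟨Fpf.restrict E hEi a x, Fpf.inv_char (Fpf.restrict E hEi) _ a x hx, rfl⟩
  set M := P'.comap (QuotientGroup.mk' F) with hM
  haveI : M.Normal := by rw [hM]; infer_instance
  have hMi : Inv ψ M := Fpf.inv_comap hP'i
  set ψM := Fpf.restrict M hMi with hψM
  letI : MulDistribMulAction A M := MulDistribMulAction.compHom M ψM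
  have hnd : ¬ 2 ∣ Nat.card (Sylow r M) := by
    obtain ⟨R⟩ : Nonempty (Sylow r M) := Sylow.nonempty
    exact fun h => (hψf.restrict hMi).not_dvd_card hA
      ((h.trans R.card_dvd_index).trans (R : Subgroup M).index_dvd_card)
  obtain ⟨R, hRfix⟩ := hA.nonempty_fixed_point_of_prime_not_dvd_card (Sylow r M) hnd
  set Rs := (R : Subgroup M).map M.subtype with hRs
  have hRi : Inv ψ Rs := by
    rintro a _ ⟨x, hx, rfl⟩
    refine ⟨ψM a x, ?_, rfl⟩
    have h1 := Subgroup.smul_mem_pointwise_smul x a (R : Subgroup M) hx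
    have h2 : a • (R : Subgroup M) = R := congrArg Sylow.toSubgroup (hRfix a)
    rw [h2] at h1
    exact h1
  have hRp : IsPGroup r Rs := R.isPGroup'.map _
  -- the Sylow subgroup covers the section
  let fM : M →* P' := ((QuotientGroup.mk' F).comp M.subtype).codRestrict P' fun x => x.2
  have hfM : Function.Surjective fM := by
    rintro ⟨x, hx⟩
    obtain ⟨g, rfl⟩ := QuotientGroup.mk_surjective x
    exact ⟨⟨g, hx⟩, rfl⟩
  have hcov : ∀ x ∈ P', ∃ g ∈ Rs, (g : (G ⧸ C) ⧸ F) = x := by
    intro x hx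
    have htop : ((R.mapSurjective hfM : Sylow r P') : Subgroup P') = ⊤ :=
      ((R.mapSurjective hfM).is_maximal' (hP'p.of_equiv Subgroup.topEquiv.symm) le_top).symm
    have h1 : (⟨x, hx⟩ : P') ∈ ((R.mapSurjective hfM : Sylow r P') : Subgroup P') := by
      rw [htop]; trivial
    rw [Sylow.coe_mapSurjective] at h1
    obtain ⟨g, hg, hgx⟩ := h1
    exact ⟨g, ⟨g, hg, rfl⟩, congrArg Subtype.val hgx⟩
  suffices hkey : ∀ g ∈ Rs, g⁻¹ * ψ τ g ∈ F by
    intro x hx
    refine Subgroup.mem_subgroupOf.mpr ?_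
    obtain ⟨g, hg, hgx⟩ := hcov (x : (G ⧸ C) ⧸ F) ⟨x, hx, rfl⟩
    show ψY τ (x : (G ⧸ C) ⧸ F) = (x : (G ⧸ C) ⧸ F)
    rw [← hgx, hψY, Fpf.quot_mk, eq_comm, QuotientGroup.eq]
    exact hkey g hg
  intro g hg
  -- the movement centralises the coprime part
  have hcent : ∀ f ∈ F, ¬ r ∣ orderOf f → Commute (g⁻¹ * ψ τ g) f := by
    intro f hf'
    induction hk : orderOf f using Nat.recOnPrimeCoprime generalizing f with
    | zero =>
      exact absurd hk (orderOf_pos f).ne'
    | prime_pow q k hq =>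
      intro hrk
      rcases Nat.eq_zero_or_pos k with rfl | hk0
      · rw [pow_zero, orderOf_eq_one_iff] at hk
        rw [hk]; exact Commute.one_right _
      haveI := Fact.mk hq
      have hqr : q ≠ r := fun h => hrk (h ▸ dvd_pow_self q hk0.ne')
      have hqF : q ∣ Nat.card F := by
        refine (dvd_pow_self q hk0.ne').trans ?_
        rw [← hk, ← Subgroup.orderOf_mk f hf']
        exact _root_.orderOf_dvd_natCard _
      have hqr0 : q ≠ r0 := fun h => Fpf.not_dvd_card_fitting V hne hi hmin hexp (h ▸ hqF)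
      have hzp : IsPGroup q (Subgroup.zpowers (⟨f, hf'⟩ : F)) :=
        IsPGroup.of_card (n := k) (by rw [Nat.card_zpowers, Subgroup.orderOf_mk, hk])
      obtain ⟨Q, hQle⟩ := hzp.exists_le_sylow
      haveI := Sylow.characteristic_of_normal Q (sylow_normal Q)
      haveI hFn : F.Normal := inferInstance
      set Qs := (Q : Subgroup F).map F.subtype with hQs
      haveI : Qs.Normal := by rw [hQs]; infer_instance
      have hQi : Inv ψ Qs := by
        rintro a _ ⟨x, hx, rfl⟩
        exact ⟨Fpf.restrict F hFi a x, Fpf.inv_char (Fpf.restrict F hFi) _ a x hx, rfl⟩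
      have h1 := moves hn hs hsn hr2 hqr hqr0 (W := Additive V)
        (fun x => Additive.toMul.injective (Subtype.ext (hexp _ (Additive.toMul x).2)))
        (Fpf.actRep φ V hi)
        (fun x hx => Fpf.actRep_free V hf hi x fun a => by
          refine Additive.toMul.injective (Subtype.ext ?_)
          rw [Fpf.actRep_apply]
          exact Fpf.fix_zpow φ (by rw [← Fpf.actRep_apply φ V hi, hx]) (hs a))
        (Q := Qs) (Q.isPGroup'.map _) (Fpf.restrict Qs hQi) (hψf.restrict hQi)
        ((Fpf.quotRep V).comp Qs.subtype)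
        (fun a y x => Fpf.compat_quotRep V hi a (y : G ⧸ C) x)
        (fun x z e => Subtype.ext (inv_mul_eq_one.mp (Fpf.quotRep_eq_one V (by
          rw [map_mul, show Fpf.quotRep V (z : G ⧸ C) = Fpf.quotRep V (x : G ⧸ C) from e.symm,
            ← map_mul, inv_mul_cancel, map_one]))))
        Rs hRp (Fpf.restrict Rs hRi) (hψf.restrict hRi)
        ((MulAut.conjNormal : (G ⧸ C) →* MulAut Qs).comp Rs.subtype)
        (fun a x z => Subtype.ext (by
          show ψ a (((MulAut.conjNormal (x : G ⧸ C)) z : Qs) : G ⧸ C) =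
            (((MulAut.conjNormal (ψ a (x : G ⧸ C))) (Fpf.restrict Qs hQi a z) : Qs) : G ⧸ C)
          rw [MulAut.conjNormal_apply, MulAut.conjNormal_apply, map_mul, map_mul, map_inv]
          rfl))
        ⟨g, hg⟩ ⟨f, ⟨⟨f, hf'⟩, hQle (Subgroup.mem_zpowers _), rfl⟩⟩
      have h2 : (g⁻¹ * ψ τ g) * f * (g⁻¹ * ψ τ g)⁻¹ = f :=
        (MulAut.conjNormal_apply _ _).symm.trans (congrArg Subtype.val h1)
      exact mul_inv_eq_iff_eq_mul.mp h2
    | coprime a b ha hb hab iha ihb =>
      intro hrk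
      have e1 : orderOf (f ^ a) = b := by
        rw [orderOf_pow_of_dvd (by omega) (hk ▸ Dvd.intro _ rfl), hk,
          Nat.mul_div_cancel_left _ (by omega)]
      have e2 : orderOf (f ^ b) = a := by
        rw [orderOf_pow_of_dvd (by omega) (hk ▸ Dvd.intro_left _ rfl), hk,
          Nat.mul_div_cancel _ (by omega)]
      have c1 := ihb (f ^ a) (pow_mem hf' a) e1 fun h => hrk (h.mul_left a)
      have c2 := iha (f ^ b) (pow_mem hf' b) e2 fun h => hrk (h.mul_right b)
      have hf2 : f = (f ^ a) ^ Nat.gcdA a b * (f ^ b) ^ Nat.gcdB a b := by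
        rw [← zpow_natCast f a, ← zpow_natCast f b, ← zpow_mul, ← zpow_mul, ← zpow_add,
          ← Nat.gcd_eq_gcd_ab, hab, Nat.cast_one, zpow_one]
      rw [hf2]
      exact (c1.zpow_right _).mul_right (c2.zpow_right _)
  -- the centraliser of the coprime part is nilpotent
  let T0 : Set (G ⧸ C) := {f | f ∈ F ∧ ¬ r ∣ orderOf f}
  set Cr := M ⊓ Subgroup.centralizer T0 with hCr
  haveI : Cr.Normal := by
    refine ⟨fun x hx z => ⟨(inferInstance : M.Normal).conj_mem x hx.1 z,
      Subgroup.mem_centralizer_iff.mpr fun f hf' => ?_⟩⟩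
    have h1 : z⁻¹ * f * z ∈ T0 := by
      refine ⟨(inferInstance : F.Normal).conj_mem' f hf'.1 z, ?_⟩
      have e : orderOf (z⁻¹ * f * z) = orderOf f := by
        have := (MulAut.conj z⁻¹).orderOf_eq f
        simpa using this
      rw [e]; exact hf'.2
    have h2 := Subgroup.mem_centralizer_iff.mp hx.2 _ h1
    calc f * (z * x * z⁻¹) = z * ((z⁻¹ * f * z) * x) * z⁻¹ := by group
      _ = z * (x * (z⁻¹ * f * z)) * z⁻¹ := by rw [h2]
      _ = z * x * z⁻¹ * f := by group
  have hgM : g ∈ M := by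
    obtain ⟨x, -, rfl⟩ := hg
    exact x.2
  have hy : g⁻¹ * ψ τ g ∈ Cr :=
    ⟨M.mul_mem (M.inv_mem hgM) (hMi τ g hgM),
      Subgroup.mem_centralizer_iff.mpr fun f hf' => (hcent f hf'.1 hf'.2).symm⟩
  have hnil : Group.IsNilpotent Cr := by
    refine Group.of_quotient_center_nilpotent ?_
    have hp : IsPGroup r (Cr ⧸ Subgroup.center Cr) := by
      intro x
      obtain ⟨x, rfl⟩ := QuotientGroup.mk_surjective x
      obtain ⟨k, hk⟩ := hP'p ⟨((x : G ⧸ C) : (G ⧸ C) ⧸ F), x.2.1⟩
      have hu : (x : G ⧸ C) ^ (r ^ k) ∈ F := by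
        rw [← QuotientGroup.eq_one_iff, QuotientGroup.mk_pow]
        exact congrArg Subtype.val hk
      set u := (x : G ⧸ C) ^ (r ^ k) with hudef
      refine ⟨k + (orderOf u).factorization r, ?_⟩
      rw [← QuotientGroup.mk_pow, QuotientGroup.eq_one_iff, Subgroup.mem_center_iff]
      intro z
      refine Subtype.ext ?_
      have h3 : u ^ (r ^ (orderOf u).factorization r) ∈ T0 := by
        refine ⟨pow_mem hu _, ?_⟩
        rw [orderOf_pow_of_dvd (pow_ne_zero _ hr.ne_zero) (Nat.ordProj_dvd _ _)]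
        exact Nat.not_dvd_ordCompl hr (orderOf_pos u).ne'
      have h4 := Subgroup.mem_centralizer_iff.mp z.2.2 _ h3
      rw [Subgroup.coe_mul, Subgroup.coe_mul, SubgroupClass.coe_pow, pow_add, pow_mul]
      exact h4.symm
    exact hp.isNilpotent
  exact Basics.le_fittingSubgroup hnil hy

/-- The movements lie in the second Fitting subgroup. -/
theorem move_mem (hn : 1 ≤ n) (hs : ∀ a : A, a ∈ Subgroup.zpowers s) (hsn : s ^ (2 ^ n) = 1)
    {G : Type u} [Group G] [Finite G] [Group.IsSolvable G] (φ : A →* MulAut G) (hf : Free φ) :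
    ∀ g : G, (((g⁻¹ * φ (s ^ (2 ^ (n - 1))) g : G)) : G ⧸ fittingSubgroup G) ∈
      fittingSubgroup (G ⧸ fittingSubgroup G) := by
  haveI := Fact.mk Nat.prime_two
  have hA := isPGroup_gen hs hsn
  set τ := s ^ (2 ^ (n - 1)) with hτ
  induction hc : Nat.card G using Nat.strong_induction_on generalizing G with
  | _ N ih =>
    subst hc
    intro g
    rcases subsingleton_or_nontrivial G with hG | hG
    · rw [Subsingleton.elim (g⁻¹ * φ τ g) 1]; exact one_mem _
    obtain ⟨V, r, hVn, hi, hne, hr, hab, hexp, hmin⟩ := Fpf.exists_minimal φ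
    haveI := Fact.mk hr
    set C := Subgroup.centralizer (V : Set G) with hC
    have hlt : Nat.card (G ⧸ V) < Nat.card G := by
      rw [V.card_eq_card_quotient_mul_card_subgroup]
      exact lt_mul_of_one_lt_right Nat.card_pos ((Subgroup.one_lt_card_iff_ne_bot V).mpr hne)
    set E' := fittingSubgroup ((G ⧸ V) ⧸ fittingSubgroup (G ⧸ V)) with hE'
    set X' := fittingSubgroup (G ⧸ C) with hX'
    let p1 : G →* (G ⧸ V) ⧸ fittingSubgroup (G ⧸ V) :=
      (QuotientGroup.mk' (fittingSubgroup (G ⧸ V))).comp (QuotientGroup.mk' V)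
    set L := E'.comap p1 ⊓ X'.comap (QuotientGroup.mk' C) with hL
    haveI : L.Normal := by rw [hL]; infer_instance
    have hmem : g⁻¹ * φ τ g ∈ L := by
      refine ⟨?_, ?_⟩
      · exact ih _ hlt (Fpf.quot V hi) (hf.quot hA V hi) rfl (g : G ⧸ V)
      · exact move_mem_quot hn hs hsn φ hf V hi hne hexp hmin (g : G ⧸ C)
    let f : L →* E' × X' :=
      ((p1.comp L.subtype).codRestrict E' fun x => x.2.1).prod
        (((QuotientGroup.mk' C).comp L.subtype).codRestrict X' fun x => x.2.2)
    set F := fittingSubgroup G with hF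
    let gL : L →* L.map (QuotientGroup.mk' F) := (QuotientGroup.mk' F).subgroupMap L
    have hker : f.ker ≤ gL.ker := by
      intro x hx
      have h1 : f x = 1 := hx
      have hp : p1 (x : G) = 1 := congrArg (fun z => ((z.1 : E') : (G ⧸ V) ⧸ fittingSubgroup (G ⧸ V))) h1
      have hq : ((x : G) : G ⧸ C) = 1 := congrArg (fun z => ((z.2 : X') : G ⧸ C)) h1
      refine MonoidHom.mem_ker.mpr (Subtype.ext ((QuotientGroup.eq_one_iff (x : G)).mpr ?_))
      exact Fpf.mem_fitting_of_quotient V ((QuotientGroup.eq_one_iff _).mp hp)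
        ((QuotientGroup.eq_one_iff _).mp hq)
    haveI : Group.IsNilpotent (L ⧸ f.ker) :=
      Group.nilpotent_of_mulEquiv (QuotientGroup.quotientKerEquivRange f).symm
    have hnil : Group.IsNilpotent (L.map (QuotientGroup.mk' F)) :=
      Group.nilpotent_of_surjective (QuotientGroup.lift f.ker gL hker) fun z => by
        obtain ⟨x, hx⟩ := (QuotientGroup.mk' F).subgroupMap_surjective L z
        exact ⟨(x : L ⧸ f.ker), hx⟩
    haveI : (L.map (QuotientGroup.mk' F)).Normal :=
      (inferInstance : L.Normal).map _ (QuotientGroup.mk'_surjective F)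
    exact Basics.le_fittingSubgroup hnil (Subgroup.mem_map_of_mem _ hmem)

end Cfsg.Agent.GrossTwo
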