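import Cfsg.Agent.Lib.GrossTwo.Fitting

/-!
Gross's bound on the Fitting height for a fixed-point-free automorphism of two-power order.
-/

set_option autoImplicit false
set_option linter.unusedSectionVars false
set_option linter.style.haveILetI false

namespace Cfsg.Agent.GrossTwo

open Cfsg
open Cfsg.Agent.Fpf (Inv Free)
open Cfsg.Agent.ShultGross (isPGroup_gen)

universe u

/-- A chain with nilpotent factors. -/
def HasChain (G : Type u) [Group G] (k : ℕ) : Prop :=
  ∃ F : Fin (k + 1) → Subgroup G, F 0 = ⊥ ∧ F (Fin.last k) = ⊤ ∧ Monotone F ∧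
    (∀ i, (F i).Normal) ∧ ∀ i : Fin k, ∃ j : ℕ, (F i.succ).lowerCentralSeries j ≤ F i.castSucc

theorem hasChain_zero (G : Type u) [Group G] (h : ∀ g : G, g = 1) : HasChain G 0 :=
  ⟨fun _ => ⊥, rfl, eq_top_iff.mpr fun g _ => by rw [h g]; exact one_mem _,
    monotone_const, fun _ => inferInstance, fun i => i.elim0⟩

theorem hasChain_cons {G : Type u} [Group G] (N : Subgroup G) [N.Normal] [Group.IsNilpotent N]
    {k : ℕ} (h : HasChain (G ⧸ N) k) : HasChain G (k + 1) := by
  obtain ⟨F', h0, hlast, hmono, hnorm, hnil⟩ := h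
  let f := QuotientGroup.mk' N
  refine ⟨Fin.cons ⊥ fun i => (F' i).comap f, rfl, ?_, ?_, ?_, ?_⟩
  · rw [← Fin.succ_last, Fin.cons_succ, hlast, Subgroup.comap_top]
  · rw [Fin.monotone_iff_le_succ]
    intro i
    cases i using Fin.cases with
    | zero => exact bot_le
    | succ j =>
      rw [← Fin.succ_castSucc, Fin.cons_succ, Fin.cons_succ]
      exact Subgroup.comap_mono (hmono (Fin.castSucc_le_succ j))
  · intro i
    cases i using Fin.cases with
    | zero => rw [Fin.cons_zero]; infer_instance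
    | succ j => rw [Fin.cons_succ]; exact (hnorm j).comap f
  · intro i
    cases i using Fin.cases with
    | zero =>
      obtain ⟨j, hj⟩ := Subgroup.nilpotent_iff_lowerCentralSeries.mp
        (inferInstance : Group.IsNilpotent N)
      refine ⟨j, ?_⟩
      rw [Fin.cons_succ, h0, MonoidHom.comap_bot, QuotientGroup.ker_mk', Fin.castSucc_zero,
        Fin.cons_zero, ← Subgroup.top_subtype_lowerCentralSeries, hj, Subgroup.map_bot]
    | succ j =>
      obtain ⟨l, hl⟩ := hnil j
      refine ⟨l, ?_⟩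
      rw [Fin.cons_succ, ← Fin.succ_castSucc, Fin.cons_succ, ← Subgroup.map_le_iff_le_comap,
        Subgroup.map_lowerCentralSeries,
        Subgroup.map_comap_eq_self_of_surjective (QuotientGroup.mk'_surjective N)]
      exact hl

/-- Two steps suffice for order dividing four. -/
theorem hasChain_four {A : Type u} [Group A] [Finite A] {s : A}
    (hs : ∀ a : A, a ∈ Subgroup.zpowers s) (hs4 : s ^ 4 = 1) {G : Type u} [Group G] [Finite G]
    [Group.IsSolvable G] (φ : A →* MulAut G) (hf : Free φ) : HasChain G 2 := by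
  haveI := Fact.mk Nat.prime_two
  have hA : IsPGroup 2 A := isPGroup_gen hs (show s ^ 2 ^ 2 = 1 from hs4)
  have hτ := Fpf.mem_fitting_of_four hs hs4 φ hf
  set F := fittingSubgroup G
  set ψ := Fpf.quot F (Fpf.inv_char φ F)
  have hψf := hf.quot hA F (Fpf.inv_char φ F)
  have hinv : ∀ x : G ⧸ F, ψ (s ^ 2) x = x := by
    intro x
    obtain ⟨g, rfl⟩ := QuotientGroup.mk_surjective x
    exact (QuotientGroup.eq.mpr (hτ g)).symm
  have hsurj : Function.Surjective fun h : G ⧸ F => h⁻¹ * ψ s h := by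
    refine (Finite.injective_iff_surjective).mp fun a b hab => ?_
    have h1 : ψ s (b * a⁻¹) = b * a⁻¹ := by
      rw [map_mul, map_inv, mul_inv_eq_iff_eq_mul, mul_assoc]
      rw [show a⁻¹ * ψ s a = b⁻¹ * ψ s b from hab, mul_inv_cancel_left]
    exact (mul_inv_eq_one.mp (Fpf.free_of_gen hs hψf h1)).symm
  have hneg : ∀ x : G ⧸ F, ψ s x = x⁻¹ := by
    intro x
    obtain ⟨h, rfl⟩ := hsurj x
    show ψ s (h⁻¹ * ψ s h) = (h⁻¹ * ψ s h)⁻¹
    rw [map_mul, map_inv, ← MulAut.mul_apply, ← map_mul, ← pow_two, hinv, mul_inv_rev, inv_inv]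
  haveI : IsMulCommutative (G ⧸ F) := ⟨⟨fun a b => by
    have h := map_mul (ψ s) a b
    rw [hneg, hneg, hneg, ← mul_inv_rev, inv_inj] at h
    exact h⟩⟩
  haveI : Group.IsNilpotent (G ⧸ F) := by
    refine Group.of_quotient_center_nilpotent ?_
    haveI : Subsingleton ((G ⧸ F) ⧸ Subgroup.center (G ⧸ F)) := by
      have h : Subgroup.center (G ⧸ F) = ⊤ :=
        eq_top_iff.mpr fun a _ => Subgroup.mem_center_iff.mpr fun b => mul_comm' b a
      rw [h]
      exact QuotientGroup.subsingleton_quotient_top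
    infer_instance
  haveI : Group.IsNilpotent (⊤ : Subgroup (G ⧸ F)) :=
    Group.nilpotent_of_mulEquiv Subgroup.topEquiv.symm
  refine hasChain_cons F (hasChain_cons ⊤ (hasChain_zero _ ?_))
  intro g
  haveI := QuotientGroup.subsingleton_quotient_top (G := G ⧸ F)
  exact Subsingleton.elim _ _

/-- The chain. -/
theorem hasChain (m : ℕ) : ∀ (A : Type u) [Group A] [Finite A] (s : A),
    (∀ a : A, a ∈ Subgroup.zpowers s) → s ^ (2 ^ (m + 2)) = 1 →
    ∀ (G : Type u) [Group G] [Finite G] [Group.IsSolvable G] (φ : A →* MulAut G), Free φ →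
      HasChain G (2 * m + 2) := by
  induction m with
  | zero =>
    intro A _ _ s hs hs4 G _ _ _ φ hf
    exact hasChain_four hs hs4 φ hf
  | succ m ih =>
    intro A _ _ s hs hsn G _ _ _ φ hf
    haveI := Fact.mk Nat.prime_two
    have hA := isPGroup_gen hs hsn
    set F1 := fittingSubgroup G with hF1
    have hi1 : Inv φ F1 := Fpf.inv_char φ F1
    set ψ1 := Fpf.quot F1 hi1 with hψ1
    have hf1 : Free ψ1 := hf.quot hA F1 hi1
    set F2 := fittingSubgroup (G ⧸ F1) with hF2
    have hi2 : Inv ψ1 F2 := Fpf.inv_char ψ1 F2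
    set ψ := Fpf.quot F2 hi2 with hψ
    have hfψ0 : Free ψ := hf1.quot hA F2 hi2
    have hψn : ψ (s ^ (2 ^ (m + 2))) = 1 := by
      refine MulEquiv.ext fun x => ?_
      obtain ⟨x, rfl⟩ := QuotientGroup.mk_surjective x
      obtain ⟨g, rfl⟩ := QuotientGroup.mk_surjective x
      rw [MulAut.one_apply, hψ, Fpf.quot_mk, hψ1, Fpf.quot_mk, eq_comm, QuotientGroup.eq,
        ← QuotientGroup.mk_inv, ← QuotientGroup.mk_mul]
      exact move_mem (n := m + 3) (by omega) hs hsn φ hf g
    let s' : ψ.range := ⟨ψ s, ⟨s, rfl⟩⟩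
    have hs' : ∀ a : ψ.range, a ∈ Subgroup.zpowers s' := by
      rintro ⟨_, a, rfl⟩
      obtain ⟨z, rfl⟩ := Subgroup.mem_zpowers_iff.mp (hs a)
      exact ⟨z, Subtype.ext (by rw [SubgroupClass.coe_zpow]; exact (map_zpow ψ s z).symm)⟩
    haveI : Finite ψ.range := Finite.of_surjective _ ψ.rangeRestrict_surjective
    have hfψ : Free (ψ.range.subtype) := fun x hx =>
      hfψ0 x fun a => hx ⟨ψ a, ⟨a, rfl⟩⟩
    have h := ih ψ.range s' hs'
      (Subtype.ext (by rw [SubgroupClass.coe_pow, ← map_pow, hψn]; rfl))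
      ((G ⧸ F1) ⧸ F2) ψ.range.subtype hfψ
    exact hasChain_cons F1 (hasChain_cons F2 h)

end Cfsg.Agent.GrossTwo
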