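import Cfsg.Agent.Lib.GrossTwo.Block
import Cfsg.Agent.Lib.ShultGross.Main

/-!
A cyclic two-group acting fixed-point-freely on groups of odd order: the involution moves the
elements of one prime-power group only by elements acting trivially on a prime-power group that is
faithfully represented without fixed vectors.
-/

set_option autoImplicit false
set_option linter.unusedSectionVars false
set_option linter.style.haveILetI false

namespace Cfsg.Agent.GrossTwo

open Module Finset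
open scoped TensorProduct commutatorElement IsMulCommutative
open Cfsg.Agent.Fpf (Inv Free fix Compat)
open Cfsg.Agent.ShultGross (comm_of_gen isPGroup_gen tau_mem exists_pow_lt)

universe u

variable {A : Type u} [Group A] {s : A} {n : ℕ}

theorem tau_sq (hn : 1 ≤ n) (hsn : s ^ (2 ^ n) = 1) :
    (s ^ (2 ^ (n - 1))) ^ 2 = 1 := by
  rw [← pow_mul, ← pow_succ, Nat.sub_add_cancel hn, hsn]

/-- An element moved into a fixed element is fixed. -/
theorem fixed_of_move {G : Type u} [Group G] (φ : A →* MulAut G) {t : A} (ht : t ^ 2 = 1)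
    (hodd : ¬ 2 ∣ Nat.card G) {y : G} (hfix : φ t (y⁻¹ * φ t y) = y⁻¹ * φ t y) : φ t y = y := by
  set c := y⁻¹ * φ t y with hcdef
  have hty : φ t y = y * c := by rw [hcdef, mul_inv_cancel_left]
  have h2 : φ t (φ t y) = y := by
    rw [← MulAut.mul_apply, ← map_mul, ← pow_two, ht, map_one, MulAut.one_apply]
  rw [hty, map_mul, hty, hfix, mul_assoc, mul_eq_left, ← pow_two] at h2
  have hc1 : c = 1 := by
    rw [← orderOf_eq_one_iff]
    exact Nat.eq_one_of_dvd_coprimes (Nat.prime_two.coprime_iff_not_dvd.mpr hodd)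
      (orderOf_dvd_of_pow_eq_one h2) (_root_.orderOf_dvd_natCard c)
  rw [hty, hc1, mul_one]

/-- In a group of odd order a square root is a power. -/
theorem mem_of_sq_mem {G : Type u} [Group G] (hodd : ¬ 2 ∣ Nat.card G) (H : Subgroup G) {x : G}
    (h : x * x ∈ H) : x ∈ H := by
  obtain ⟨k, hk⟩ : Odd (orderOf x) := Nat.not_even_iff_odd.mp fun he =>
    hodd (he.two_dvd.trans (_root_.orderOf_dvd_natCard x))
  have hx : x = (x * x) ^ (k + 1) := by
    rw [← pow_two, ← pow_mul, show 2 * (k + 1) = orderOf x + 1 by omega, pow_succ,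
      pow_orderOf_eq_one, one_mul]
  rw [hx]
  exact pow_mem h _

/-- An element of coprime order moving only into its fixed elements moves nothing. -/
theorem eq_of_coprime_move {G : Type u} [Group G] (f : MulAut G) {k : ℕ} (hk : f ^ k = 1)
    {y : G} (hfix : f (y⁻¹ * f y) = y⁻¹ * f y) (hcop : k.Coprime (Nat.card G)) : f y = y := by
  set c := y⁻¹ * f y with hcdef
  have hty : f y = y * c := by rw [hcdef, mul_inv_cancel_left]
  have hpow : ∀ j : ℕ, (f ^ j) y = y * c ^ j := by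
    intro j
    induction j with
    | zero => simp
    | succ j ih => rw [pow_succ', MulAut.mul_apply, ih, map_mul, hty, map_pow, hfix, mul_assoc,
        ← pow_succ']
  have h1 := hpow k
  rw [hk, MulAut.one_apply, left_eq_mul] at h1
  have hc1 : c = 1 := by
    rw [← orderOf_eq_one_iff]
    exact Nat.eq_one_of_dvd_coprimes hcop (orderOf_dvd_of_pow_eq_one h1)
      (_root_.orderOf_dvd_natCard c)
  rw [hty, hc1, mul_one]

theorem coprime_card {q r : ℕ} [hq : Fact q.Prime] [hr : Fact r.Prime] (hqr : q ≠ r) {G H : Type u}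
    [Group G] [Group H] [Finite G] [Finite H] (hG : IsPGroup q G) (hH : IsPGroup r H) :
    (Nat.card G).Coprime (Nat.card H) := by
  obtain ⟨a, ha⟩ := IsPGroup.iff_card.mp hG
  obtain ⟨b, hb⟩ := IsPGroup.iff_card.mp hH
  rw [ha, hb]
  exact ((Nat.coprime_primes hq.out hr.out).mpr hqr).pow a b

/-- The commutative case. -/
theorem comm_case (hn : 1 ≤ n) (hs : ∀ a : A, a ∈ Subgroup.zpowers s) (hsn : s ^ (2 ^ n) = 1)
    {Q : Type u} [Group Q] [Finite Q] (hcomm : ∀ x y : Q, x * y = y * x) (α : A →* MulAut Q)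
    (hodd : ¬ 2 ∣ Nat.card Q) {W : Type u} [AddCommGroup W] [Finite W]
    (ρ : Q →* AddMonoid.End W) (S : A →* AddMonoid.End W) (hc : Compat α ρ S)
    (hS : ∀ x : W, S s x = x → x = 0) (hcop : (Nat.card Q).Coprime (Nat.card W)) :
    ∀ y x, ρ (y⁻¹ * α (s ^ (2 ^ (n - 1))) y) x = x := by
  intro y x
  set τ := s ^ (2 ^ (n - 1)) with hτ
  let f : Q →* Q :=
    { toFun := fun y => y⁻¹ * α τ y
      map_one' := by simp
      map_mul' := fun x y => by
        rw [map_mul, mul_inv_rev, hcomm y⁻¹ x⁻¹]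
        simp only [mul_assoc]
        rw [← mul_assoc y⁻¹, hcomm y⁻¹ (α τ x), mul_assoc] }
  refine Fpf.fixed_of_aSum_eq_zero hc f.range s (2 ^ n) (Nat.two_pow_pos n) ?_ ?_
    (hcop.coprime_dvd_left f.range.card_subgroup_dvd_card)
    (fun z _ => hS _ (Fpf.S_aSum hsn _)) _ ⟨y, rfl⟩
  · rintro i - _ ⟨z, rfl⟩
    refine ⟨α (s ^ i) z, ?_⟩
    show (α (s ^ i) z)⁻¹ * α τ (α (s ^ i) z) = α (s ^ i) (z⁻¹ * α τ z)
    rw [map_mul, map_inv, ← MulAut.mul_apply, ← MulAut.mul_apply, ← map_mul, ← map_mul,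
      comm_of_gen hs]
  · rintro i hi hi0 _ ⟨z, rfl⟩ hz
    show z⁻¹ * α τ z = 1
    rw [fixed_of_move α (tau_sq hn hsn) hodd
      (Fpf.fix_zpow α hz (tau_mem Nat.prime_two hsn hi0 hi)), inv_mul_cancel]

variable {r : ℕ} [hr : Fact r.Prime]

/-- The movements in a commutative group act trivially on a group of coprime order. -/
theorem comm_moves (hn : 1 ≤ n) (hs : ∀ a : A, a ∈ Subgroup.zpowers s) (hsn : s ^ (2 ^ n) = 1)
    (hr2 : r ≠ 2) {R : Type u} [Group R] [Finite R] (hR : IsPGroup r R)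
    (hcomm : ∀ x y : R, x * y = y * x) (αR : A →* MulAut R) {q : ℕ} [Fact q.Prime] (hqr : q ≠ r) :
    ∀ (Q : Type u) [Group Q] [Finite Q], IsPGroup q Q → ∀ (αQ : A →* MulAut Q), Free αQ →
      ∀ (θ : R →* MulAut Q), (∀ a g y, αQ a (θ g y) = θ (αR a g) (αQ a y)) →
      ∀ g y, θ (g⁻¹ * αR (s ^ (2 ^ (n - 1))) g) y = y := by
  intro Q _ _
  induction hN : Nat.card Q using Nat.strong_induction_on generalizing Q with
  | _ N ih =>
  subst hN
  intro hQ αQ hfQ θ hc g y
  rcases subsingleton_or_nontrivial Q with hQ1 | hQ1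
  · exact Subsingleton.elim _ _
  set Z := Subgroup.center Q with hZ
  haveI : Nontrivial Z := hQ.center_nontrivial
  have hcopRQ : (Nat.card R).Coprime (Nat.card Q) := coprime_card hqr.symm hR hQ
  have hoddR : ¬ 2 ∣ Nat.card R := by
    obtain ⟨e, he⟩ := IsPGroup.iff_card.mp hR
    rw [he]
    exact fun h => hr2 ((Nat.prime_dvd_prime_iff_eq Nat.prime_two hr.out).mp
      (Nat.prime_two.dvd_of_dvd_pow h)).symm
  have hcA : Inv αQ Z := Fpf.inv_char _ _
  have hcθ : Inv θ Z := Fpf.inv_char _ _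
  set t := g⁻¹ * αR (s ^ (2 ^ (n - 1))) g with ht
  have hZfix : ∀ z ∈ Z, θ t z = z := by
    intro z hz
    have h1 := comm_case hn hs hsn hcomm αR hoddR (W := Additive Z) (Fpf.actRep θ Z hcθ)
      (Fpf.actRep αQ Z hcA)
      (fun a g x => Additive.toMul.injective (Subtype.ext (by
        rw [Fpf.actRep_apply, Fpf.actRep_apply, Fpf.actRep_apply, Fpf.actRep_apply]
        exact hc a g _)))
      (fun x hx => Additive.toMul.injective (Subtype.ext (Fpf.free_of_gen hs hfQ (by
        rw [← Fpf.actRep_apply αQ Z hcA, hx]))))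
      (hcopRQ.coprime_dvd_right Z.card_subgroup_dvd_card) g (Additive.ofMul ⟨z, hz⟩)
    have h2 := congrArg (fun w : Additive Z => ((Additive.toMul w : Z) : Q)) h1
    exact (Fpf.actRep_apply θ Z hcθ t _).symm.trans h2
  haveI := Fact.mk Nat.prime_two
  have hlt : Nat.card (Q ⧸ Z) < Nat.card Q := by
    rw [Z.card_eq_card_quotient_mul_card_subgroup]
    exact lt_mul_of_one_lt_right Nat.card_pos Finite.one_lt_card
  have h3 := ih _ hlt (Q ⧸ Z) rfl (hQ.to_quotient Z) (Fpf.quot Z hcA)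
    (hfQ.quot (isPGroup_gen hs hsn) Z hcA) (Fpf.quot Z hcθ)
    (fun a g x => by
      obtain ⟨x, rfl⟩ := QuotientGroup.mk_surjective x
      rw [Fpf.quot_mk, Fpf.quot_mk, Fpf.quot_mk, Fpf.quot_mk, hc]) g (y : Q ⧸ Z)
  rw [Fpf.quot_mk, eq_comm, QuotientGroup.eq] at h3
  refine eq_of_coprime_move (θ t) (k := Nat.card R) ?_ (hZfix _ h3) hcopRQ
  rw [← map_pow, pow_card_eq_one', map_one]

theorem inv_abPow {Q : Type u} [Group Q] (α : A →* MulAut Q) (k : ℕ) :
    Inv α ((powMonoidHom k : Abelianization Q →* Abelianization Q).range.comap Abelianization.of) := by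
  rintro a x ⟨w, hw⟩
  obtain ⟨w, rfl⟩ : ∃ v, Abelianization.of v = w := QuotientGroup.mk'_surjective _ w
  refine ⟨Abelianization.of (α a w), ?_⟩
  have h1 := congrArg (Abelianization.map (α a).toMonoidHom) hw
  rw [powMonoidHom_apply, map_pow, Abelianization.map_of, Abelianization.map_of] at h1
  exact h1

/-- Movements act trivially on a faithfully represented group of coprime order. -/
theorem moves (hn : 1 ≤ n) (hs : ∀ a : A, a ∈ Subgroup.zpowers s) (hsn : s ^ (2 ^ n) = 1)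
    (hr2 : r ≠ 2) {q : ℕ} [hq : Fact q.Prime] (hqr : q ≠ r) {r0 : ℕ} [hr0 : Fact r0.Prime]
    (hqr0 : q ≠ r0) {W : Type u} [AddCommGroup W] [Finite W] (hexp : ∀ x : W, r0 • x = 0)
    (S : A →* AddMonoid.End W) (hS : ∀ x : W, S s x = x → x = 0)
    {Q : Type u} [Group Q] [Finite Q] (hQ : IsPGroup q Q) (αQ : A →* MulAut Q) (hfQ : Free αQ)
    (ρ : Q →* AddMonoid.End W) (hρc : Compat αQ ρ S) (hinj : Function.Injective ρ) :
    ∀ (R : Type u) [Group R] [Finite R], IsPGroup r R → ∀ (αR : A →* MulAut R), Free αR →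
      ∀ (θ : R →* MulAut Q), (∀ a g y, αQ a (θ g y) = θ (αR a g) (αQ a y)) →
      ∀ g y, θ (g⁻¹ * αR (s ^ (2 ^ (n - 1))) g) y = y := by
  intro R _ _
  induction hN : Nat.card R using Nat.strong_induction_on generalizing R with
  | _ N ih =>
  subst hN
  intro hR αR hfR θ hc
  haveI := Fact.mk Nat.prime_two
  set τ := s ^ (2 ^ (n - 1)) with hτ
  have hA := isPGroup_gen hs hsn
  have hcop : (Nat.card R).Coprime (Nat.card Q) := coprime_card hqr.symm hR hQ
  have hoddR : ¬ 2 ∣ Nat.card R := hfR.not_dvd_card hA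
  have hoddQ : ¬ 2 ∣ Nat.card Q := hfQ.not_dvd_card hA
  have hτ2 : τ ^ 2 = 1 := tau_sq hn hsn
  rcases subsingleton_or_nontrivial Q with hQ1 | hQ1
  · exact fun g y => Subsingleton.elim _ _
  -- pass to a faithful action
  by_cases hker : θ.ker = ⊥
  swap
  · have hi : Inv αR θ.ker := by
      intro a g hg
      rw [MonoidHom.mem_ker] at hg ⊢
      refine MulEquiv.ext fun y => ?_
      have h1 := hc a g ((αQ a).symm y)
      rw [hg, MulAut.one_apply, MulEquiv.apply_symm_apply] at h1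
      exact h1.symm
    have hlt : Nat.card (R ⧸ θ.ker) < Nat.card R := by
      rw [θ.ker.card_eq_card_quotient_mul_card_subgroup]
      exact lt_mul_of_one_lt_right Nat.card_pos ((Subgroup.one_lt_card_iff_ne_bot _).mpr hker)
    intro g y
    exact ih _ hlt (R ⧸ θ.ker) rfl (hR.to_quotient _) (Fpf.quot θ.ker hi) (hfR.quot hA _ hi)
      (QuotientGroup.kerLift θ)
      (fun a g y => by
        obtain ⟨g, rfl⟩ := QuotientGroup.mk_surjective g
        exact hc a g y) (g : R ⧸ θ.ker) y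
  have hθ : ∀ {g : R}, (∀ y, θ g y = y) → g = 1 := fun h =>
    (MonoidHom.ker_eq_bot_iff θ).mp hker (by rw [map_one]; exact MulEquiv.ext h)
  set F0 := fix αR τ with hF0
  have hF0i : Inv αR F0 := Fpf.inv_fix αR (comm_of_gen hs) τ
  have hsub : ∀ R' : Subgroup R, Inv αR R' → R' ≠ ⊤ → R' ≤ F0 := by
    intro R' hR' hne x hx
    have hlt : Nat.card R' < Nat.card R :=
      lt_of_le_of_ne (Subgroup.card_le_card_group R') fun e => hne (Subgroup.eq_top_of_card_eq R' e)
    have h1 := hθ fun y => ih _ hlt R' rfl (hR.to_subgroup R') (Fpf.restrict R' hR')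
      (hfR.restrict hR') (θ.comp R'.subtype) (fun a g y => hc a g y) ⟨x, hx⟩ y
    exact (inv_mul_eq_one.mp h1).symm
  by_cases hF0t : F0 = ⊤
  · intro g y
    rw [show αR τ g = g from (hF0t ▸ Subgroup.mem_top g : g ∈ F0), inv_mul_cancel, map_one,
      MulAut.one_apply]
  exfalso
  have hmove : ∀ g, g⁻¹ * αR τ g ∈ F0 → g ∈ F0 := fun g hg => fixed_of_move αR hτ2 hoddR hg
  obtain ⟨g0, hg0⟩ : ∃ g0, g0 ∉ F0 := by
    by_contra h
    push Not at h
    exact hF0t (eq_top_iff.mpr fun g _ => h g)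
  -- the fixed subgroup is central
  have hnR : Group.IsNilpotent R := hR.isNilpotent
  haveI hF0n : F0.Normal := by
    rw [← Subgroup.normalizer_eq_top_iff]
    by_contra hne
    have hlt := normalizerCondition_of_isNilpotent F0 (lt_top_iff_ne_top.mpr hF0t)
    refine hlt.not_ge (hsub _ ?_ hne)
    intro a g hg
    rw [Subgroup.mem_normalizer_iff] at hg ⊢
    intro h
    obtain ⟨h', rfl⟩ := (αR a).surjective h
    have hiff : ∀ x, αR a x ∈ F0 ↔ x ∈ F0 := fun x => by
      refine ⟨fun hx => ?_, hF0i a x⟩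
      have := hF0i a⁻¹ _ hx
      rwa [← MulAut.mul_apply, ← map_mul, inv_mul_cancel, map_one, MulAut.one_apply] at this
    rw [← map_inv, ← map_mul, ← map_mul, hiff, hiff]
    exact hg h'
  set T := Subgroup.centralizer (F0 : Set R) with hT
  have hTmem : ∀ y, y⁻¹ * αR τ y ∈ T := by
    intro y
    rw [Subgroup.mem_centralizer_iff]
    intro f hf
    have hfix : ∀ g ∈ F0, αR τ g = g := fun g hg => hg
    have h2 := hfix _ (hF0n.conj_mem f hf y)
    rw [map_mul, map_mul, map_inv, hfix f hf] at h2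
    have h3 : y⁻¹ * (αR τ y * f * (αR τ y)⁻¹) * αR τ y = y⁻¹ * (y * f * y⁻¹) * αR τ y := by rw [h2]
    simpa [mul_assoc] using h3.symm
  have hTtop : T = ⊤ := by
    by_contra hne
    exact hg0 (hmove g0 (hsub T hF0i.centralizer hne (hTmem g0)))
  have hF0Z : F0 ≤ Subgroup.center R := Subgroup.centralizer_eq_top_iff_subset.mp hTtop
  have hab : Subgroup.center R ≠ ⊤ := by
    intro htop
    refine hg0 ((inv_mul_eq_one.mp (hθ fun y => ?_)).symm : αR τ g0 = g0)
    exact comm_moves hn hs hsn hr2 hR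
      (fun x y => Subgroup.mem_center_iff.mp (htop ▸ Subgroup.mem_top y) x) αR hqr Q hQ αQ hfQ θ hc
      g0 y
  -- the derived group
  set D := commutator R with hDdef
  haveI : Nontrivial R := by
    by_contra h
    rw [not_nontrivial_iff_subsingleton] at h
    exact hab (Subsingleton.elim _ _)
  have hDi : Inv αR D := Fpf.inv_char αR _
  have hDF : D ≤ F0 := hsub D hDi (Group.IsSolvable.commutator_lt_top_of_nontrivial R).ne
  have hDne : ∃ c ∈ D, ∃ y, θ c y ≠ y := by
    by_contra h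
    push Not at h
    apply hab
    rw [eq_top_iff]
    intro g _
    rw [Subgroup.mem_center_iff]
    intro x
    have hcD : ⁅x, g⁆ ∈ D := Subgroup.commutator_mem_commutator (Subgroup.mem_top x) (Subgroup.mem_top g)
    exact commutatorElement_eq_one_iff_mul_comm.mp (hθ (h _ hcD))
  have hDc : ∀ c ∈ D, ∀ g, g * c = c * g := fun c hc' g =>
    Subgroup.mem_center_iff.mp (hF0Z (hDF hc')) g
  have hθD : ∀ c ∈ D, ∀ y, αQ τ (θ c y) = θ c (αQ τ y) := fun c hc' y => by
    rw [hc, show αR τ c = c from hDF hc']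
  have hθcomm : ∀ c ∈ D, ∀ g y, θ g (θ c y) = θ c (θ g y) := fun c hc' g y => by
    rw [← MulAut.mul_apply, ← MulAut.mul_apply, ← map_mul, ← map_mul, hDc c hc' g]
  -- a minimal witness
  obtain ⟨Q0, ⟨hQA, hQR, hQD⟩, hQmin⟩ := WellFounded.has_min (wellFounded_lt (α := Subgroup Q))
    {X | Inv αQ X ∧ Inv θ X ∧ ∃ c ∈ D, ∃ y ∈ X, θ c y ≠ y}
    ⟨⊤, fun _ _ _ => trivial, fun _ _ _ => trivial, by
      obtain ⟨c, hc', y, hy⟩ := hDne
      exact ⟨c, hc', y, trivial, hy⟩⟩
  have hsmall : ∀ X : Subgroup Q, Inv αQ X → Inv θ X → X ≤ Q0 → X ≠ Q0 →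
      ∀ c ∈ D, ∀ y ∈ X, θ c y = y := by
    intro X h1 h2 h3 h4 c hc' y hy
    by_contra hne
    exact hQmin X ⟨h1, h2, c, hc', y, hy, hne⟩ (lt_of_le_of_ne h3 h4)
  have hfixX : ∀ X : Subgroup Q, Inv θ X → (∀ x ∈ X, αQ τ x = x) → ∀ g, ∀ x ∈ X, θ g x = x := by
    intro X hX hXτ
    let St : Subgroup R :=
      { carrier := {g | ∀ x ∈ X, θ g x = x}
        one_mem' := fun x _ => by rw [map_one, MulAut.one_apply]
        mul_mem' := fun {a b} ha hb x hx => by rw [map_mul, MulAut.mul_apply, hb x hx, ha x hx]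
        inv_mem' := fun {a} ha x hx => by
          conv_lhs => rw [← ha x hx]
          rw [← MulAut.mul_apply, ← map_mul, inv_mul_cancel, map_one, MulAut.one_apply] }
    let M : Subgroup R := Subgroup.closure (Set.range fun g => g⁻¹ * αR τ g)
    have hMS : M ≤ St := by
      rw [Subgroup.closure_le]
      rintro _ ⟨g, rfl⟩ x hx
      have h1 : θ g x = θ (αR τ g) x := by
        have h2 := hc τ g x
        rw [hXτ _ (hX g x hx), hXτ x hx] at h2
        exact h2
      show θ (g⁻¹ * αR τ g) x = x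
      rw [map_mul, MulAut.mul_apply, ← h1, ← MulAut.mul_apply, ← map_mul, inv_mul_cancel, map_one,
        MulAut.one_apply]
    have hMi : Inv αR M := by
      intro a g hg
      have hle : M ≤ M.comap (αR a).toMonoidHom := by
        rw [Subgroup.closure_le]
        rintro _ ⟨g', rfl⟩
        refine Subgroup.subset_closure ⟨αR a g', ?_⟩
        show (αR a g')⁻¹ * αR τ (αR a g') = αR a (g'⁻¹ * αR τ g')
        rw [map_mul, map_inv, ← MulAut.mul_apply, ← MulAut.mul_apply, ← map_mul, ← map_mul,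
          comm_of_gen hs]
      exact hle hg
    intro g
    have htop : M = ⊤ := by
      by_contra hne
      exact hg0 (hmove g0 (hsub M hMi hne (Subgroup.subset_closure ⟨g0, rfl⟩)))
    exact hMS (htop ▸ Subgroup.mem_top g)
  -- restrict to the witness
  set a0 := Fpf.restrict Q0 hQA with ha0
  set t0 := Fpf.restrict Q0 hQR with ht0
  have hc0 : ∀ a g (y : Q0), a0 a (t0 g y) = t0 (αR a g) (a0 a y) := fun a g y =>
    Subtype.ext (hc a g y)
  have ht0comm : ∀ c ∈ D, ∀ g (y : Q0), t0 g (t0 c y) = t0 c (t0 g y) := fun c hc' g y =>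
    Subtype.ext (hθcomm c hc' g y)
  have hf0 : Free a0 := hfQ.restrict hQA
  have hQ0 : IsPGroup q Q0 := hQ.to_subgroup Q0
  obtain ⟨c1, hc1, y1, hy1⟩ : ∃ c ∈ D, ∃ y : Q0, t0 c y ≠ y := by
    obtain ⟨c, hc', y, hy, hne⟩ := hQD
    exact ⟨c, hc', ⟨y, hy⟩, fun h => hne (congrArg Subtype.val h)⟩
  have hprop : ∀ Y : Subgroup Q0, Inv a0 Y → Inv t0 Y → Y ≠ ⊤ →
      ∀ c ∈ D, ∀ y ∈ Y, t0 c y = y := by
    intro Y h1 h2 h3 c hc' y hy
    refine Subtype.ext (hsmall (Y.map Q0.subtype) ?_ ?_ (Subgroup.map_subtype_le Y) ?_ c hc' y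
      ⟨y, hy, rfl⟩)
    · rintro a _ ⟨x, hx, rfl⟩; exact ⟨a0 a x, h1 a x hx, rfl⟩
    · rintro a _ ⟨x, hx, rfl⟩; exact ⟨t0 a x, h2 a x hx, rfl⟩
    · intro e
      apply h3
      exact Subgroup.map_injective Q0.subtype_injective
        (e.trans (by rw [← MonoidHom.range_eq_map, Subgroup.range_subtype]))
  have hcop0 : (Nat.card R).Coprime (Nat.card Q0) :=
    hcop.coprime_dvd_right Q0.card_subgroup_dvd_card
  have hstab : ∀ c (y : Q0), t0 c (y⁻¹ * t0 c y) = y⁻¹ * t0 c y → t0 c y = y := fun c y h =>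
    eq_of_coprime_move (t0 c) (k := Nat.card R) (by rw [← map_pow, pow_card_eq_one', map_one]) h
      hcop0
  -- generated by the movements of the derived group
  let gens : Set Q0 := {z | ∃ c ∈ D, ∃ x : Q0, z = x⁻¹ * t0 c x}
  have hgen : Subgroup.closure gens = ⊤ := by
    by_contra hne
    have hIA : Inv a0 (Subgroup.closure gens) := by
      intro a z hz
      have hle : Subgroup.closure gens ≤ (Subgroup.closure gens).comap (a0 a).toMonoidHom := by
        rw [Subgroup.closure_le]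
        rintro _ ⟨c, hc', x, rfl⟩
        refine Subgroup.subset_closure ⟨αR a c, hDi a c hc', a0 a x, ?_⟩
        show a0 a (x⁻¹ * t0 c x) = _
        rw [map_mul, map_inv, hc0]
      exact hle hz
    have hIR : Inv t0 (Subgroup.closure gens) := by
      intro g z hz
      have hle : Subgroup.closure gens ≤ (Subgroup.closure gens).comap (t0 g).toMonoidHom := by
        rw [Subgroup.closure_le]
        rintro _ ⟨c, hc', x, rfl⟩
        refine Subgroup.subset_closure ⟨c, hc', t0 g x, ?_⟩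
        show t0 g (x⁻¹ * t0 c x) = _
        rw [map_mul, map_inv, ht0comm c hc']
      exact hle hz
    exact hy1 (hstab c1 y1
      (hprop _ hIA hIR hne c1 hc1 _ (Subgroup.subset_closure ⟨c1, hc1, y1, rfl⟩)))
  haveI : Nontrivial Q0 := ⟨⟨t0 c1 y1, y1, hy1⟩⟩
  set P := (powMonoidHom q : Abelianization Q0 →* Abelianization Q0).range.comap Abelianization.of
    with hP
  haveI hPn : P.Normal := by rw [hP]; infer_instance
  have hPt : P ≠ ⊤ := by
    intro h
    have hntab : Nontrivial (Abelianization Q0) := by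
      haveI : Group.IsNilpotent Q0 := hQ0.isNilpotent
      exact QuotientGroup.nontrivial_iff.mpr
        (Group.IsSolvable.commutator_lt_top_of_nontrivial Q0).ne
    have hsur : Function.Surjective (powMonoidHom q : Abelianization Q0 →* Abelianization Q0) := by
      intro w
      obtain ⟨x, rfl⟩ : ∃ v, Abelianization.of v = w := QuotientGroup.mk'_surjective _ w
      have hx : x ∈ P := h ▸ Subgroup.mem_top x
      exact hx
    have hinj' := Finite.injective_iff_surjective.mpr hsur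
    have hdvd : q ∣ Nat.card (Abelianization Q0) := by
      obtain ⟨e, he⟩ := IsPGroup.iff_card.mp (hQ0.to_quotient (commutator Q0))
      have h1 : 1 < Nat.card (Abelianization Q0) := Finite.one_lt_card
      rw [show Nat.card (Abelianization Q0) = q ^ e from he] at h1 ⊢
      exact dvd_pow_self q fun e0 => by rw [e0, pow_zero] at h1; exact lt_irrefl 1 h1
    obtain ⟨w, hw⟩ := exists_prime_orderOf_dvd_card' q hdvd
    have h2 : w = 1 := hinj' (by
      show w ^ q = (1 : Abelianization Q0) ^ q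
      rw [one_pow, ← hw, pow_orderOf_eq_one])
    rw [h2, orderOf_one] at hw
    exact hq.out.ne_one hw.symm
  set Z := Subgroup.center Q0 with hZdef
  have hPZ : P ≤ Z := by
    intro w hw
    rw [Subgroup.mem_center_iff]
    intro g
    have hle : Subgroup.closure gens ≤ Subgroup.centralizer {w} := by
      rw [Subgroup.closure_le]
      rintro _ ⟨c, hc', x, rfl⟩
      rw [SetLike.mem_coe, Subgroup.mem_centralizer_singleton_iff]
      have hfix : ∀ v ∈ P, t0 c v = v := hprop P (inv_abPow a0 q) (inv_abPow t0 q) hPt c hc'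
      have h1 := hfix _ (hPn.conj_mem w hw x)
      rw [map_mul, map_mul, map_inv, hfix w hw] at h1
      calc x⁻¹ * t0 c x * w = x⁻¹ * (t0 c x * w * (t0 c x)⁻¹) * t0 c x := by group
        _ = x⁻¹ * (x * w * x⁻¹) * t0 c x := by rw [h1]
        _ = w * (x⁻¹ * t0 c x) := by group
    exact Subgroup.mem_centralizer_singleton_iff.mp (hle (hgen ▸ Subgroup.mem_top g))
  have hcomZ : ∀ x w : Q0, ⁅x, w⁆ ∈ Z := fun x w => hPZ (by
    rw [hP, Subgroup.mem_comap, map_commutatorElement, commutatorElement_eq_one_iff_mul_comm.mpr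
      (mul_comm _ _)]
    exact one_mem _)
  have hqpow : ∀ x : Q0, x ^ q ∈ Z := fun x => hPZ ⟨Abelianization.of x, (map_pow _ x q).symm⟩
  -- the representation
  set ρ0 := ρ.comp Q0.subtype with hρ0
  have hρ0c : Compat a0 ρ0 S := fun a y x => hρc a y x
  have hρ0i : Function.Injective ρ0 := hinj.comp Q0.subtype_injective
  have hodd0 : ¬ 2 ∣ Nat.card Q0 := hf0.not_dvd_card hA
  have hWp : IsPGroup r0 (Multiplicative W) := fun x => ⟨1, by
    rw [pow_one]; exact congrArg Multiplicative.ofAdd (hexp x.toAdd)⟩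
  have hcopW : (Nat.card Q0).Coprime (Nat.card W) := coprime_card hqr0 hQ0 (H := Multiplicative W) hWp
  have hZi : Inv a0 Z := Fpf.inv_char _ _
  have hZr : Inv t0 Z := Fpf.inv_char _ _
  have hτZ : ∀ z ∈ Z, a0 τ z = z := by
    intro z hz
    have h1 := comm_case hn hs hsn (Q := Z)
      (fun x y => Subtype.ext (Subgroup.mem_center_iff.mp y.2 x)) (Fpf.restrict Z hZi)
      ((hf0.restrict hZi).not_dvd_card hA) (ρ0.comp Z.subtype) S (fun a y x => hρ0c a y x) hS
      (hcopW.coprime_dvd_left Z.card_subgroup_dvd_card) ⟨z, hz⟩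
    have h2 : ρ0 (z⁻¹ * a0 τ z) = 1 := AddMonoidHom.ext h1
    rw [← map_one ρ0] at h2
    exact (inv_mul_eq_one.mp (hρ0i h2)).symm
  have hRZ : ∀ g, ∀ z ∈ Z, t0 g z = z := fun g z hz => Subtype.ext (hfixX (Z.map Q0.subtype)
    (by rintro a _ ⟨x, hx, rfl⟩; exact ⟨t0 a x, hZr a x hx, rfl⟩)
    (by rintro _ ⟨x, hx, rfl⟩; exact congrArg Subtype.val (hτZ x hx)) g z ⟨z, hz, rfl⟩)
  have hcz : ∀ z ∈ Z, ∀ g : Q0, g * z = z * g := fun z hz g => Subgroup.mem_center_iff.mp hz g
  have hcommQ : ∀ x w : Q0 ⧸ Z, x * w = w * x := by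
    intro x w
    obtain ⟨x, rfl⟩ := QuotientGroup.mk_surjective x
    obtain ⟨w, rfl⟩ := QuotientGroup.mk_surjective w
    rw [← commutatorElement_eq_one_iff_mul_comm, ← QuotientGroup.mk'_apply,
      ← QuotientGroup.mk'_apply, ← map_commutatorElement, QuotientGroup.mk'_apply,
      QuotientGroup.eq_one_iff]
    exact hcomZ x w
  -- the inverted part
  let Q1 : Subgroup Q0 :=
    { carrier := {x | x * a0 τ x ∈ Z}
      one_mem' := by
        show (1 : Q0) * a0 τ 1 ∈ Z
        rw [map_one, mul_one]; exact one_mem _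
      mul_mem' := fun {x w} hx hw => by
        show x * w * a0 τ (x * w) ∈ Z
        have hx' : x * a0 τ x ∈ Z := hx
        have hw' : w * a0 τ w ∈ Z := hw
        rw [← QuotientGroup.eq_one_iff] at hx' hw' ⊢
        rw [map_mul]
        simp only [QuotientGroup.mk_mul] at hx' hw' ⊢
        calc (x : Q0 ⧸ Z) * w * ((a0 τ x : Q0) * (a0 τ w : Q0))
            = (x * (a0 τ x : Q0)) * (w * (a0 τ w : Q0)) := by
              rw [mul_assoc, ← mul_assoc (w : Q0 ⧸ Z), hcommQ (w : Q0 ⧸ Z) (a0 τ x : Q0), mul_assoc,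
                mul_assoc]
          _ = 1 := by rw [hx', hw', mul_one]
      inv_mem' := fun {x} hx => by
        show x⁻¹ * a0 τ x⁻¹ ∈ Z
        have hx' : x * a0 τ x ∈ Z := hx
        rw [← QuotientGroup.eq_one_iff] at hx' ⊢
        rw [map_inv]
        simp only [QuotientGroup.mk_mul, QuotientGroup.mk_inv] at hx' ⊢
        rw [← mul_inv_rev, hcommQ, hx', inv_one] }
  have hQ1 : ∀ {x}, x ∈ Q1 ↔ x * a0 τ x ∈ Z := Iff.rfl
  have hZQ1 : Z ≤ Q1 := fun z hz => hQ1.mpr (by rw [hτZ z hz]; exact mul_mem hz hz)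
  have hQ1A : Inv a0 Q1 := fun a x hx => hQ1.mpr (by
    rw [show a0 τ (a0 a x) = a0 a (a0 τ x) by
      rw [← MulAut.mul_apply, ← MulAut.mul_apply, ← map_mul, ← map_mul, comm_of_gen hs], ← map_mul]
    exact hZi a _ (hQ1.mp hx))
  have hQ1D : ∀ c ∈ D, ∀ x ∈ Q1, t0 c x ∈ Q1 := fun c hc' x hx => hQ1.mpr (by
    rw [show a0 τ (t0 c x) = t0 c (a0 τ x) from Subtype.ext (hθD c hc' (x : Q)), ← map_mul,
      hRZ c _ (hQ1.mp hx)]
    exact hQ1.mp hx)
  have hvQ1 : ∀ x : Q0, x⁻¹ * a0 τ x ∈ Q1 := fun x => hQ1.mpr (by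
    have h2 : a0 τ (a0 τ x) = x := by
      rw [← MulAut.mul_apply, ← map_mul, ← pow_two, hτ2, map_one, MulAut.one_apply]
    rw [map_mul, map_inv, h2, mul_assoc, mul_inv_cancel_left, inv_mul_cancel]
    exact one_mem _)
  have hfixe : ∀ x : Q0, a0 τ (x * a0 τ x) = x * a0 τ x := by
    intro x
    refine fixed_of_move a0 hτ2 hodd0 (hτZ _ ?_)
    have h2 : a0 τ (a0 τ x) = x := by
      rw [← MulAut.mul_apply, ← map_mul, ← pow_two, hτ2, map_one, MulAut.one_apply]
    rw [map_mul, h2, ← QuotientGroup.eq_one_iff]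
    simp only [QuotientGroup.mk_mul, QuotientGroup.mk_inv]
    rw [hcommQ (a0 τ x : Q0) (x : Q0 ⧸ Z), inv_mul_cancel]
  have hef : ∀ u ∈ Q1, ∀ e : Q0, a0 τ e = e → ⁅u, e⁆ = 1 := by
    intro u hu e he
    have h1 : a0 τ ⁅u, e⁆ = ⁅u, e⁆ := hτZ _ (hcomZ u e)
    rw [map_commutatorElement, he] at h1
    have hu' : a0 τ u = u⁻¹ * (u * a0 τ u) := (inv_mul_cancel_left u _).symm
    have h2 : ⁅a0 τ u, e⁆ = ⁅u, e⁆⁻¹ := by
      rw [hu', eq_inv_iff_mul_eq_one]
      have hz := hcz _ (hQ1.mp hu)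
      generalize u * a0 τ u = z at hz ⊢
      have e1 : ⁅u⁻¹ * z, e⁆ = ⁅u⁻¹, e⁆ := by
        rw [commutatorElement_def, commutatorElement_def, mul_inv_rev, inv_inv]
        calc u⁻¹ * z * e * (z⁻¹ * u) * e⁻¹ = u⁻¹ * (z * e * z⁻¹) * u * e⁻¹ := by group
          _ = _ := by rw [show z * e * z⁻¹ = e by rw [← hz e, mul_inv_cancel_right]]
      rw [e1]
      calc ⁅u⁻¹, e⁆ * ⁅u, e⁆ = u * ⁅u⁻¹, e⁆ * u⁻¹ * ⁅u, e⁆ := by
            rw [hcz _ (hcomZ u⁻¹ e) u, mul_inv_cancel_right]
        _ = 1 := by simp only [commutatorElement_def]; group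
    rw [h2] at h1
    exact Subgroup.mem_bot.mp (mem_of_sq_mem hodd0 ⊥
      (Subgroup.mem_bot.mpr (mul_eq_one_iff_eq_inv.mpr h1.symm)))
  have hsupp : ∀ u ∈ Q1, (∀ v ∈ Q1, ⁅u, v⁆ = 1) → u ∈ Z := by
    intro u hu hall
    rw [Subgroup.mem_center_iff]
    intro x
    have hx2 : x * x = x * a0 τ x * (x⁻¹ * a0 τ x)⁻¹ := by group
    have h1 : x * x ∈ Subgroup.centralizer {u} := by
      rw [hx2]
      have hcm : ∀ w, ⁅u, w⁆ = 1 → w ∈ Subgroup.centralizer {u} := fun w hw =>
        Subgroup.mem_centralizer_singleton_iff.mpr (commutatorElement_eq_one_iff_mul_comm.mp hw).symm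
      exact mul_mem (hcm _ (hef u hu _ (hfixe x))) (inv_mem (hcm _ (hall _ (hvQ1 x))))
    exact Subgroup.mem_centralizer_singleton_iff.mp (mem_of_sq_mem hodd0 _ h1)
  -- extend the scalars
  haveI : Module (ZMod r0) W := AddCommGroup.zmodModule hexp
  haveI : Module.Finite (ZMod r0) W := Module.Finite.of_finite
  let K := AlgebraicClosure (ZMod r0)
  haveI : CharP K r0 := charP_of_injective_algebraMap (algebraMap (ZMod r0) K).injective r0
  let conv : AddMonoid.End W →* Module.End (ZMod r0) W :=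
    { toFun := fun f => AddMonoidHom.toZModLinearMap r0 f
      map_one' := LinearMap.ext fun _ => rfl
      map_mul' := fun _ _ => LinearMap.ext fun _ => rfl }
  let bc : Module.End (ZMod r0) W →* Module.End K (K ⊗[ZMod r0] W) :=
    (Module.End.baseChangeHom (ZMod r0) K W).toMonoidHom
  set ρ1 := ρ0.comp Q1.subtype with hρ1
  let ρK := bc.comp (conv.comp ρ1)
  let SK := bc.comp (conv.comp S)
  have hbc : Function.Injective bc := by
    intro f g e
    refine LinearMap.ext fun w => ?_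
    have h1 := LinearMap.congr_fun e ((1 : K) ⊗ₜ[ZMod r0] w)
    have h2 : (1 : K) ⊗ₜ[ZMod r0] f w = (1 : K) ⊗ₜ[ZMod r0] g w := h1
    exact Module.FaithfullyFlat.tensorProduct_mk_injective (A := ZMod r0) (B := K) W h2
  have hρK : Function.Injective ρK := fun x y e =>
    Subtype.ext (hρ0i (AddMonoidHom.ext fun w => LinearMap.congr_fun (hbc e) w))
  have hcK : ∀ a y, SK a * ρK y = ρK (Fpf.restrict Q1 hQ1A a y) * SK a := fun a y => by
    show bc (conv (S a)) * bc (conv (ρ1 y)) = bc (conv (ρ1 (Fpf.restrict Q1 hQ1A a y))) * bc (conv (S a))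
    rw [← map_mul bc, ← map_mul bc]
    exact congrArg bc (LinearMap.ext fun w => hρ0c a y w)
  have haS : ∀ x : W, Fpf.aSum S s (2 ^ n) x = 0 := fun x => hS _ (Fpf.S_aSum hsn x)
  have hsumK : ∑ i ∈ range (2 ^ n), SK (s ^ i) = 0 := by
    show ∑ i ∈ range (2 ^ n), Module.End.baseChangeHom (ZMod r0) K W (conv (S (s ^ i))) = 0
    rw [← map_sum, show ∑ i ∈ range (2 ^ n), conv (S (s ^ i)) = 0 from LinearMap.ext fun w => ?_,
      map_zero]
    rw [LinearMap.sum_apply]
    exact haS w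
  have hr02 : r0 ≠ 2 := by
    rintro rfl
    haveI : Nontrivial W := by
      by_contra h
      rw [not_nontrivial_iff_subsingleton] at h
      exact hy1 (hρ0i (AddMonoidHom.ext fun x => Subsingleton.elim _ _))
    letI : MulAction A W :=
      { smul := fun a x => S a x
        one_smul := fun x => Fpf.one_apply' S x
        mul_smul := fun a b x => Fpf.mul_apply' S a b x }
    obtain ⟨f, hf⟩ := IsPGroup.iff_card.mp hWp
    have hrW : 2 ∣ Nat.card W := by
      have h1 : 1 < Nat.card W := Finite.one_lt_card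
      rw [show Nat.card W = 2 ^ f from hf] at h1 ⊢
      exact dvd_pow_self 2 fun e => by rw [e, pow_zero] at h1; exact lt_irrefl 1 h1
    obtain ⟨x, hx, hxne⟩ := hA.exists_fixed_point_of_prime_dvd_card_of_fixed_point W hrW
      (fun a => map_zero (S a) : (0 : W) ∈ MulAction.fixedPoints A W)
    exact hxne (hS x (hx s)).symm
  have hq2 : q ≠ 2 := fun e => by
    apply hodd0
    obtain ⟨k, hk⟩ := IsPGroup.iff_card.mp hQ0
    have h1 : 1 < Nat.card Q0 := Finite.one_lt_card
    rw [hk, e] at h1 ⊢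
    exact dvd_pow_self 2 fun e0 => by rw [e0, pow_zero] at h1; exact lt_irrefl 1 h1
  let δ : D →* MulAut Q1 := Fpf.restrict (φ := t0.comp D.subtype) Q1 (fun c x hx => hQ1D c c.2 x hx)
  haveI : (Z.subgroupOf Q1).Normal := inferInstance
  have hblock := block hn hsn (hQ0.to_subgroup Q1) hq2 (Fpf.restrict Q1 hQ1A) (Z.subgroupOf Q1)
    (fun a x hx => hZi a _ hx)
    (fun x hx => Subgroup.mem_center_iff.mpr fun g => Subtype.ext (hcz _ hx g))
    (fun x w => hcomZ _ _) (fun x => hqpow _)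
    (fun u hu => hsupp u u.2 fun v hv => congrArg Subtype.val (hu ⟨v, hv⟩))
    (le_antisymm
      (fun x hx => by
        have h1 : a0 τ (x : Q0) = x := congrArg Subtype.val hx
        have h2 := hQ1.mp x.2
        rw [h1] at h2
        exact mem_of_sq_mem hodd0 Z h2)
      (fun x hx => Subtype.ext (hτZ _ hx)))
    ρK hρK SK hcK hsumK
    (by rw [Ne, CharP.cast_eq_zero_iff K r0]
        exact fun h => hqr0 ((Nat.prime_dvd_prime_iff_eq hr0.out hq.out).mp h).symm)
    (by rw [← Nat.cast_two, Ne, CharP.cast_eq_zero_iff K r0]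
        exact fun h => hr02 ((Nat.prime_dvd_prime_iff_eq hr0.out Nat.prime_two).mp h))
    hr2 (hR.to_subgroup D) δ
    (fun c z hz => Subtype.ext (hRZ c _ hz))
    (fun a c => ⟨⟨αR a c, hDi a c c.2⟩, MulEquiv.ext fun x => Subtype.ext (hc0 a c x)⟩)
  have hDQ1 : ∀ c ∈ D, ∀ x ∈ Q1, t0 c x = x := fun c hc' x hx => by
    refine hstab c x (hRZ c _ ?_)
    exact hblock ⟨x, hx⟩ ⟨c, hc'⟩
  -- the witness is fixed by the involution
  have hQ0τ : ∀ x : Q0, a0 τ x = x := by
    have hle : Subgroup.closure gens ≤ fix a0 τ := by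
      rw [Subgroup.closure_le]
      rintro _ ⟨c, hc', x, rfl⟩
      refine fixed_of_move a0 hτ2 hodd0 (hτZ _ ?_)
      set w := x⁻¹ * t0 c x with hw
      have hv := hDQ1 c hc' _ (hvQ1 x)
      rw [map_mul, map_inv, ← show a0 τ (t0 c x) = t0 c (a0 τ x) from Subtype.ext (hθD c hc' (x : Q)),
        show t0 c x = x * w by rw [hw, mul_inv_cancel_left], map_mul] at hv
      have hv' := congrArg (fun z : Q0 => (z : Q0 ⧸ Z)) hv
      simp only [QuotientGroup.mk_mul, QuotientGroup.mk_inv] at hv'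
      rw [← QuotientGroup.eq_one_iff]
      simp only [QuotientGroup.mk_mul, QuotientGroup.mk_inv]
      generalize (x : Q0 ⧸ Z) = X, (a0 τ x : Q0 ⧸ Z) = T', (w : Q0 ⧸ Z) = Y,
        ((a0 τ w : Q0) : Q0 ⧸ Z) = U at hv' ⊢
      letI : CommGroup (Q0 ⧸ Z) := { (inferInstance : Group (Q0 ⧸ Z)) with mul_comm := hcommQ }
      calc Y⁻¹ * U = (X * Y)⁻¹ * (T' * U) * (X⁻¹ * T')⁻¹ := by
            rw [mul_inv, mul_inv, inv_inv]
            have : X⁻¹ * Y⁻¹ * (T' * U) * (X * T'⁻¹) = (X⁻¹ * X) * (T' * T'⁻¹) * (Y⁻¹ * U) := by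
              ac_rfl
            rw [this, inv_mul_cancel, mul_inv_cancel, one_mul, one_mul]
        _ = 1 := by rw [hv', mul_inv_cancel]
    intro x
    exact hle (hgen ▸ Subgroup.mem_top x)
  refine hy1 (Subtype.ext (hfixX Q0 hQR (fun x hx => congrArg Subtype.val (hQ0τ ⟨x, hx⟩)) c1 y1 y1.2))

end Cfsg.Agent.GrossTwo
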