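import Mathlib

/-!
An odd group of automorphisms of a plane of order `q ^ 2`, with `q + 1 = 2 ^ m`, that is normalised
by an automorphism of order `2 ^ m` acting fixed-point-freely and preserves a nondegenerate
alternating pairing, is trivial.
-/

set_option autoImplicit false
set_option linter.unusedSectionVars false
set_option linter.style.haveILetI false

namespace Cfsg.Agent.GrossTwo

/-- The degree in the two-power case. -/
theorem degree_two {q m d t e : ℕ} (hq : q.Prime) (hq2 : q ≠ 2) (hd : 2 ≤ d)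
    (hle : d ≤ 2 ^ m - 1) (ht : d * d = 1 + 2 ^ m * t) (hdt : d ≤ t + 1) (he : d * d = q ^ e) :
    d = q ∧ q + 1 = 2 ^ m ∧ 2 ≤ m := by
  have hN : 1 ≤ 2 ^ m := Nat.one_le_two_pow
  have hdN : d + 1 = 2 ^ m := by
    by_contra hne
    have h1 : d + 1 < 2 ^ m := by omega
    have h2 : 2 ^ m * (d - 1) ≤ 2 ^ m * t := Nat.mul_le_mul_left _ (by omega)
    obtain ⟨d0, rfl⟩ : ∃ d0, d = d0 + 1 := ⟨d - 1, by omega⟩
    simp only [Nat.add_sub_cancel] at h2
    nlinarith
  obtain ⟨b, -, hb⟩ := (Nat.dvd_prime_pow hq).mp (Dvd.intro _ he : d ∣ q ^ e)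
  subst hb
  have hm : 2 ≤ m := by
    by_contra hm
    have : 2 ^ m ≤ 2 ^ 1 := Nat.pow_le_pow_right (by norm_num) (by omega)
    omega
  suffices hb1 : b = 1 by
    subst hb1
    rw [pow_one] at hdN ⊢
    exact ⟨rfl, hdN, hm⟩
  have hqo : Odd q := hq.odd_of_ne_two hq2
  rcases Nat.even_or_odd b with ⟨c, rfl⟩ | hbo
  · exfalso
    obtain ⟨k, hk⟩ := (hqo.pow : Odd (q ^ c))
    obtain ⟨m', rfl⟩ : ∃ m', m = m' + 2 := ⟨m - 2, by omega⟩
    rw [← two_mul, pow_mul', hk, pow_add] at hdN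
    have h4 : (2 * k + 1) ^ 2 + 1 = 4 * (k * k + k) + 2 := by ring
    omega
  · have hgs := geom_sum_mul (-(q : ℤ)) b
    set S : ℤ := ∑ i ∈ Finset.range b, (-(q : ℤ)) ^ i
    have hS : S * ((q : ℤ) + 1) = 2 ^ m := by
      rw [hbo.neg_pow] at hgs
      have h5 : ((q : ℤ) ^ b + 1) = 2 ^ m := by exact_mod_cast hdN
      linarith
    have hodd : (S : ZMod 2) = 1 := by
      show ((∑ i ∈ Finset.range b, (-(q : ℤ)) ^ i : ℤ) : ZMod 2) = 1
      push_cast
      rw [ZMod.natCast_eq_one_iff_odd.mpr hqo, show (-1 : ZMod 2) = 1 from by decide]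
      simp only [one_pow, Finset.sum_const, Finset.card_range, nsmul_one]
      exact ZMod.natCast_eq_one_iff_odd.mpr hbo
    have hSnat : S.natAbs ∣ 2 ^ m := by
      have := Int.natAbs_dvd_natAbs.mpr (Dvd.intro _ hS : S ∣ 2 ^ m)
      simpa [Int.natAbs_pow] using this
    obtain ⟨j, -, hj⟩ := (Nat.dvd_prime_pow Nat.prime_two).mp hSnat
    rcases Nat.eq_zero_or_pos j with rfl | hj0
    · rw [pow_zero] at hj
      have hpos : S = 1 := by
        rcases Int.natAbs_eq S with h | h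
        · rw [h, hj]; rfl
        · exfalso
          rw [h, hj] at hS
          have h6 : (0 : ℤ) < 2 ^ m := by positivity
          have h7 : (0 : ℤ) ≤ q := by positivity
          push_cast at hS
          linarith
      rw [hpos, one_mul] at hS
      have h8 : q + 1 = 2 ^ m := by exact_mod_cast hS
      have h9 : q ^ b = q ^ 1 := by rw [pow_one]; omega
      exact Nat.pow_right_injective hq.two_le h9
    · exfalso
      have h2 : (2 : ℤ) ∣ S := by
        rw [show (2 : ℤ) = ((2 : ℕ) : ℤ) from rfl, Int.natCast_dvd, hj]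
        exact dvd_pow_self 2 hj0.ne'
      have h3 := (ZMod.intCast_zmod_eq_zero_iff_dvd S 2).mpr (by exact_mod_cast h2)
      rw [hodd] at h3
      exact one_ne_zero h3

section Plane

variable {V : Type*} [CommGroup V] [Finite V] {q m r : ℕ}

/-- The exponent of an element on a line it stabilises. -/
theorem exists_exponent [Fact q.Prime] {L : Subgroup V} (hL : Nat.card L = q) (c : MulAut V)
    (hc : L.map c.toMonoidHom = L) : ∃ i : ℕ, (i : ZMod q) ≠ 0 ∧ ∀ x ∈ L, c x = x ^ i := by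
  haveI : IsCyclic L := isCyclic_of_prime_card hL
  obtain ⟨x0, hx0⟩ := IsCyclic.exists_monoid_generator (α := L)
  have hcx : c (x0 : V) ∈ L := hc.le (Subgroup.mem_map_of_mem _ x0.2)
  obtain ⟨i, hi⟩ := (Submonoid.mem_powers_iff _ _).mp (hx0 ⟨c (x0 : V), hcx⟩)
  have hi' : c (x0 : V) = (x0 : V) ^ i := (congrArg Subtype.val hi).symm
  have hall : ∀ x ∈ L, c x = x ^ i := fun x hx => by
    obtain ⟨k, hk⟩ := (Submonoid.mem_powers_iff _ _).mp (hx0 ⟨x, hx⟩)
    have hk' : (x0 : V) ^ k = x := congrArg Subtype.val hk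
    rw [← hk', map_pow, hi', ← pow_mul, ← pow_mul, mul_comm]
  refine ⟨i, fun h0 => ?_, hall⟩
  obtain ⟨k, rfl⟩ := (CharP.cast_eq_zero_iff (ZMod q) q i).mp h0
  have h1 : (x0 : V) ^ q = 1 := by
    have := congrArg Subtype.val (pow_card_eq_one' (x := x0))
    rwa [hL] at this
  have h2 : c (x0 : V) = 1 := by rw [hi', pow_mul, h1, one_pow]
  have h3 : x0 = 1 := Subtype.ext (c.map_eq_one_iff.mp h2)
  have h4 : Nat.card L ≤ 1 := by
    refine (Finite.card_le_one_iff_subsingleton).mpr ⟨fun a b => ?_⟩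
    obtain ⟨_, rfl⟩ := (Submonoid.mem_powers_iff _ _).mp (hx0 a)
    obtain ⟨_, rfl⟩ := (Submonoid.mem_powers_iff _ _).mp (hx0 b)
    simp [h3]
  rw [hL] at h4
  exact absurd h4 (not_le.mpr (Fact.out : q.Prime).one_lt)

theorem pow_congr [Fact q.Prime] (hexp : ∀ x : V, x ^ q = 1) {x : V} (hx : x ≠ 1) {i j : ℕ} :
    x ^ i = x ^ j ↔ (i : ZMod q) = j := by
  rw [pow_eq_pow_iff_modEq, orderOf_eq_prime (hexp x) hx, ZMod.natCast_eq_natCast_iff]

theorem pow_iterate (f : MulAut V) {x : V} {i : ℕ} (h : f x = x ^ i) :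
    ∀ k : ℕ, (f ^ k) x = x ^ (i ^ k) := by
  intro k
  induction k with
  | zero => simp
  | succ k ih => rw [pow_succ', MulAut.mul_apply, ih, map_pow, h, ← pow_mul, ← pow_succ']

/-- The number of lines. -/
theorem card_lines [Fact q.Prime] (hcard : Nat.card V = q ^ 2) (hexp : ∀ x : V, x ^ q = 1) :
    Nat.card {L : Subgroup V // Nat.card L = q} = q + 1 := by
  classical
  have hq : q.Prime := Fact.out
  haveI := Fintype.ofFinite {L : Subgroup V // Nat.card L = q}
  let e : {x : V // x ≠ 1} ≃ Σ L : {L : Subgroup V // Nat.card L = q}, {x : L.1 // x ≠ 1} :=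
    { toFun := fun x => ⟨⟨Subgroup.zpowers x.1, by
          rw [Nat.card_zpowers, orderOf_eq_prime (hexp _) x.2]⟩,
        ⟨⟨x.1, Subgroup.mem_zpowers _⟩, fun h => x.2 (congrArg Subtype.val h)⟩⟩
      invFun := fun p => ⟨p.2.1.1, fun h => p.2.2 (Subtype.ext h)⟩
      left_inv := fun x => rfl
      right_inv := by
        rintro ⟨⟨L, hL⟩, ⟨⟨x, hx⟩, hne⟩⟩
        have h1 : Subgroup.zpowers x = L := by
          refine Subgroup.eq_of_le_of_card_ge (Subgroup.zpowers_le.mpr hx) ?_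
          rw [hL, Nat.card_zpowers, orderOf_eq_prime (hexp x) fun h => hne (Subtype.ext h)]
        subst h1
        rfl }
  haveI := Fintype.ofFinite V
  have h1 := Nat.card_congr e
  rw [Nat.card_sigma] at h1
  have hfib : ∀ L : {L : Subgroup V // Nat.card L = q}, Nat.card {x : L.1 // x ≠ 1} = q - 1 :=
    fun L => by
      rw [Nat.card_eq_fintype_card, Fintype.card_subtype_compl, Fintype.card_subtype_eq,
        ← Nat.card_eq_fintype_card, L.2]
  rw [Finset.sum_congr rfl fun L _ => hfib L, Finset.sum_const, Finset.card_univ,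
    ← Nat.card_eq_fintype_card, smul_eq_mul, Nat.card_eq_fintype_card, Fintype.card_subtype_compl,
    Fintype.card_subtype_eq, ← Nat.card_eq_fintype_card, hcard] at h1
  obtain ⟨q', rfl⟩ : ∃ q', q = q' + 1 := ⟨q - 1, by have := hq.two_le; omega⟩
  have h2 : (q' + 1) ^ 2 - 1 = (q' + 2) * q' := by
    have : (q' + 1) ^ 2 = (q' + 2) * q' + 1 := by ring
    omega
  rw [h2, Nat.add_sub_cancel] at h1
  exact (Nat.eq_of_mul_eq_mul_right (by have := hq.two_le; omega) h1).symm

/-- The plane lemma. -/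
theorem plane [Fact q.Prime] [Fact r.Prime] (hr2 : r ≠ 2) (hcard : Nat.card V = q ^ 2)
    (hexp : ∀ x : V, x ^ q = 1) (hqm : q + 1 = 2 ^ m) (hm : 2 ≤ m)
    (a : MulAut V) (haN : a ^ (2 ^ m) = 1)
    (hfpf : ∀ j, 0 < j → j < 2 ^ m → ∀ x, (a ^ j) x = x → x = 1)
    (D : Subgroup (MulAut V)) (hD : IsPGroup r D) (hnorm : ∀ c ∈ D, a⁻¹ * c * a ∈ D)
    {M : Type*} [CommMonoid M] (B : V → V → M) (hBl : ∀ x x' y, B (x * x') y = B x y * B x' y)
    (hBr : ∀ x y y', B x (y * y') = B x y * B x y') (hBone : ∀ x, B x 1 = 1 ∧ B 1 x = 1)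
    (halt : ∀ x, B x x = 1) (hnd : ∀ x, x ≠ 1 → ∃ y, B x y ≠ 1)
    (hBD : ∀ c ∈ D, ∀ x y, B (c x) (c y) = B x y) :
    ∀ c ∈ D, c = 1 := by
  classical
  have hq : q.Prime := Fact.out
  have hr : r.Prime := Fact.out
  have hBpow : ∀ x y (i j : ℕ), B (x ^ i) (y ^ j) = B x y ^ (i * j) := by
    have hl : ∀ x y (i : ℕ), B (x ^ i) y = B x y ^ i := fun x y i => by
      induction i with
      | zero => rw [pow_zero, pow_zero, (hBone y).2]
      | succ i ih => rw [pow_succ, hBl, ih, pow_succ]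
    have hrr : ∀ x y (j : ℕ), B x (y ^ j) = B x y ^ j := fun x y j => by
      induction j with
      | zero => rw [pow_zero, pow_zero, (hBone x).1]
      | succ j ih => rw [pow_succ, hBr, ih, pow_succ]
    intro x y i j
    rw [hl, hrr, ← pow_mul, mul_comm]
  -- a fixed line
  let 𝓛 := {L : Subgroup V // Nat.card L = q}
  letI : MulAction D 𝓛 :=
    { smul := fun c L => ⟨L.1.map (c : MulAut V).toMonoidHom, by
        rw [Subgroup.card_map_of_injective (c : MulAut V).injective]; exact L.2⟩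
      one_smul := fun L => Subtype.ext (by
        show L.1.map (((1 : D) : MulAut V)).toMonoidHom = L.1
        exact Subgroup.map_id L.1)
      mul_smul := fun c c' L => Subtype.ext (by
        show L.1.map ((((c * c' : D)) : MulAut V)).toMonoidHom =
          (L.1.map (c' : MulAut V).toMonoidHom).map (c : MulAut V).toMonoidHom
        rw [Subgroup.map_map]
        rfl) }
  have hnd2 : ¬ r ∣ Nat.card 𝓛 := by
    show ¬ r ∣ Nat.card {L : Subgroup V // Nat.card L = q}
    rw [card_lines hcard hexp, hqm]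
    exact fun h => hr2 ((Nat.prime_dvd_prime_iff_eq hr Nat.prime_two).mp (hr.dvd_of_dvd_pow h))
  obtain ⟨⟨L, hL⟩, hLfix⟩ := hD.nonempty_fixed_point_of_prime_not_dvd_card 𝓛 hnd2
  have hLD : ∀ c ∈ D, L.map (c : MulAut V).toMonoidHom = L := fun c hc =>
    congrArg Subtype.val (hLfix ⟨c, hc⟩)
  -- its translates are fixed as well
  have hstep : ∀ M0 : Subgroup V, (∀ c ∈ D, M0.map (c : MulAut V).toMonoidHom = M0) →
      ∀ c ∈ D, (M0.map a.toMonoidHom).map (c : MulAut V).toMonoidHom = M0.map a.toMonoidHom := by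
    intro M0 hM c hc
    conv_rhs => rw [← hM _ (hnorm c hc)]
    rw [Subgroup.map_map, Subgroup.map_map]
    congr 1
    refine MonoidHom.ext fun x => ?_
    show c (a x) = a (a⁻¹ (c (a x)))
    rw [MulAut.inv_apply, MulEquiv.apply_symm_apply]
  set L1 := L.map a.toMonoidHom with hL1def
  set L2 := L1.map a.toMonoidHom with hL2def
  have hL1 : Nat.card L1 = q := by rw [hL1def, Subgroup.card_map_of_injective a.injective, hL]
  have hL2 : Nat.card L2 = q := by rw [hL2def, Subgroup.card_map_of_injective a.injective, hL1]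
  have hL1D := hstep L hLD
  have hL2D := hstep L1 hL1D
  have hne1 : ∀ {M0 : Subgroup V}, Nat.card M0 = q → ∃ x, x ∈ M0 ∧ x ≠ 1 := by
    intro M0 hM0
    haveI : Nontrivial M0 := Finite.one_lt_card_iff_nontrivial.mp (hM0 ▸ hq.one_lt)
    obtain ⟨x, hx⟩ := exists_ne (1 : M0)
    exact ⟨x, x.2, fun h => hx (Subtype.ext h)⟩
  -- a power fixing a line
  have hgcd : ∀ (k : ℕ) {i : ZMod q}, i ≠ 0 → i ^ (2 ^ k) = 1 → i ^ 2 = 1 := by
    intro k i hi hik
    have hf : i ^ (q - 1) = 1 := ZMod.pow_card_sub_one_eq_one hi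
    have h1 : i ^ Nat.gcd (2 ^ k) (q - 1) = 1 := pow_gcd_eq_one.mpr ⟨hik, hf⟩
    have h2 : Nat.gcd (2 ^ k) (q - 1) ∣ 2 := by
      obtain ⟨j, hj, hjeq⟩ := (Nat.dvd_prime_pow Nat.prime_two).mp (Nat.gcd_dvd_left (2 ^ k) (q - 1))
      rw [hjeq]
      rcases Nat.lt_or_ge j 2 with hj2 | hj2
      · exact pow_dvd_pow 2 (by omega : j ≤ 1)
      · exfalso
        have h4 : 2 ^ 2 ∣ q - 1 := (pow_dvd_pow 2 hj2).trans (hjeq ▸ Nat.gcd_dvd_right _ _)
        have h5 : 2 ^ 2 ∣ q + 1 := hqm ▸ pow_dvd_pow 2 hm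
        have := hq.two_le
        omega
    obtain ⟨e, he⟩ := h2
    rw [he, pow_mul, h1, one_pow]
  have hnofix : ∀ (k : ℕ), k + 1 < m → ∀ M0 : Subgroup V, Nat.card M0 = q →
      M0.map (a ^ (2 ^ k)).toMonoidHom ≠ M0 := by
    intro k hk M0 hM0 hmap
    obtain ⟨i, hi, hix⟩ := exists_exponent hM0 (a ^ (2 ^ k)) hmap
    obtain ⟨x, hxM, hx⟩ := hne1 hM0
    have hit := pow_iterate (a ^ (2 ^ k)) (hix x hxM) (2 ^ (m - k))
    rw [← pow_mul, ← pow_add, Nat.add_sub_cancel' (by omega : k ≤ m), haN, MulAut.one_apply] at hit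
    have h1 : ((i : ZMod q)) ^ (2 ^ (m - k)) = 1 := by
      have h0 := (pow_congr hexp hx).mp (((pow_one x).trans hit).symm)
      push_cast at h0
      exact h0
    have h2 := hgcd _ hi h1
    refine hx (hfpf (2 ^ (k + 1)) (Nat.two_pow_pos _)
      (Nat.pow_lt_pow_right (by norm_num) (by omega)) x ?_)
    have h3 := pow_iterate (a ^ (2 ^ k)) (hix x hxM) 2
    rw [← pow_mul, ← pow_succ] at h3
    rw [h3]
    conv_rhs => rw [← pow_one x]
    refine (pow_congr hexp hx).mpr ?_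
    push_cast
    exact h2
  have hne01 : L1 ≠ L := by
    have h := hnofix 0 (by omega) L hL
    rwa [pow_zero, pow_one] at h
  -- two different lines
  have hdisj : ∀ {M0 M1 : Subgroup V}, Nat.card M0 = q → Nat.card M1 = q → M0 ≠ M1 →
      ∀ x ∈ M0, x ∈ M1 → x = 1 := by
    intro M0 M1 h0 h1 hne x hx0 hx1
    by_contra hx
    have hz : ∀ {M : Subgroup V}, Nat.card M = q → x ∈ M → Subgroup.zpowers x = M := fun hM hxM =>
      Subgroup.eq_of_le_of_card_ge (Subgroup.zpowers_le.mpr hxM)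
        (by rw [hM, Nat.card_zpowers, orderOf_eq_prime (hexp x) hx])
    exact hne ((hz h0 hx0).symm.trans (hz h1 hx1))
  have hdec : ∀ z : V, ∃ x ∈ L, ∃ y ∈ L1, x * y = z := by
    have hinj : Function.Injective fun p : L × L1 => (p.1 : V) * p.2 := by
      rintro ⟨x, y⟩ ⟨x', y'⟩ (h : (x : V) * y = x' * y')
      have h1 : (x' : V)⁻¹ * x = y' * (y : V)⁻¹ := by
        rw [eq_mul_inv_iff_mul_eq, mul_assoc, h, inv_mul_cancel_left]
      have h2 := hdisj hL hL1 (Ne.symm hne01) _ (mul_mem (inv_mem x'.2) x.2)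
        (h1 ▸ mul_mem y'.2 (inv_mem y.2))
      have h3 := h1.symm.trans h2
      exact Prod.ext (Subtype.ext (inv_mul_eq_one.mp h2).symm) (Subtype.ext (mul_inv_eq_one.mp h3).symm)
    have hsurj := ((Nat.bijective_iff_injective_and_card _).mpr ⟨hinj, by
      rw [Nat.card_prod, hL, hL1, hcard, pow_two]⟩).2
    intro z
    obtain ⟨⟨x, y⟩, h⟩ := hsurj z
    exact ⟨x, x.2, y, y.2, h⟩
  intro c hc
  obtain ⟨i, hi, hiL⟩ := exists_exponent hL c (hLD c hc)
  obtain ⟨j, hj, hjL⟩ := exists_exponent hL1 c (hL1D c hc)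
  obtain ⟨x, hxL, hx⟩ := hne1 hL
  set y := a x with hydef
  have hyL : y ∈ L1 := Subgroup.mem_map_of_mem _ hxL
  have hy : y ≠ 1 := fun h => hx (a.map_eq_one_iff.mp h)
  have hgenL : ∀ {M0 : Subgroup V}, Nat.card M0 = q → ∀ {g}, g ∈ M0 → g ≠ 1 →
      ∀ w ∈ M0, ∃ k : ℕ, g ^ k = w := by
    intro M0 hM0 g hg hg1 w hw
    have h1 : Subgroup.zpowers g = M0 := Subgroup.eq_of_le_of_card_ge (Subgroup.zpowers_le.mpr hg)
      (by rw [hM0, Nat.card_zpowers, orderOf_eq_prime (hexp g) hg1])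
    have h2 : w ∈ Submonoid.powers g := mem_powers_iff_mem_zpowers.mpr (h1.symm ▸ hw)
    exact h2
  have hBxy : B x y ≠ 1 := by
    intro h0
    obtain ⟨z, hz⟩ := hnd x hx
    obtain ⟨u, hu, v, hv, rfl⟩ := hdec z
    obtain ⟨k, rfl⟩ := hgenL hL hxL hx u hu
    obtain ⟨l, rfl⟩ := hgenL hL1 hyL hy v hv
    have e1 : B x (x ^ k) = 1 := by
      have := hBpow x x 1 k; rw [pow_one, halt, one_pow] at this; exact this
    have e2 : B x (y ^ l) = 1 := by
      have := hBpow x y 1 l; rw [pow_one, h0, one_pow] at this; exact this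
    exact hz (by rw [hBr, e1, e2, one_mul])
  have hij : (i : ZMod q) * j = 1 := by
    have h1 := hBD c hc x y
    rw [hiL x hxL, hjL y hyL, hBpow] at h1
    have hq1 : B x y ^ q = 1 := by
      have := hBpow x y q 1
      rw [pow_one, hexp, (hBone y).2, mul_one] at this
      exact this.symm
    have hu : IsUnit (B x y) := IsUnit.of_pow_eq_one hq1 hq.ne_zero
    obtain ⟨b, hb⟩ := hu
    have hbne : b ≠ 1 := fun h => hBxy (by rw [← hb, h]; rfl)
    have hbq : b ^ q = 1 := Units.ext (by rw [Units.val_pow_eq_pow_val, hb, hq1]; rfl)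
    have h2 : b ^ (i * j) = b ^ 1 := Units.ext (by
      rw [Units.val_pow_eq_pow_val, Units.val_pow_eq_pow_val, hb, pow_one, h1])
    rw [pow_eq_pow_iff_modEq, orderOf_eq_prime hbq hbne, ← ZMod.natCast_eq_natCast_iff] at h2
    push_cast at h2
    exact h2
  have hi2 : (i : ZMod q) ^ 2 = 1 := by
    rcases Nat.lt_or_ge m 3 with hm3 | hm3
    · obtain rfl : m = 2 := by omega
      obtain rfl : q = 3 := by omega
      exact ZMod.pow_card_sub_one_eq_one hi
    · have hne02 : L2 ≠ L := by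
        have h := hnofix 1 (by omega) L hL
        intro e
        apply h
        rw [pow_one, pow_two]
        show L.map ((a * a : MulAut V)).toMonoidHom = L
        conv_rhs => rw [← e, hL2def, hL1def, Subgroup.map_map]
        rfl
      have hne12 : L2 ≠ L1 := fun e => hne01 (Subgroup.map_injective a.injective e)
      obtain ⟨l, -, hlL⟩ := exists_exponent hL2 c (hL2D c hc)
      set z := a y with hzdef
      have hzL : z ∈ L2 := Subgroup.mem_map_of_mem _ hyL
      have hz : z ≠ 1 := fun h => hy (a.map_eq_one_iff.mp h)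
      obtain ⟨u, hu, v, hv, huv⟩ := hdec z
      have hu1 : u ≠ 1 := fun h => hz (hdisj hL2 hL1 hne12 z hzL (by rw [← huv, h, one_mul]; exact hv))
      have hv1 : v ≠ 1 := fun h => hz (hdisj hL2 hL hne02 z hzL (by rw [← huv, h, mul_one]; exact hu))
      have e1 := hlL z hzL
      rw [← huv, map_mul, hiL u hu, hjL v hv, mul_pow] at e1
      have e2 : (u ^ l)⁻¹ * u ^ i = v ^ l * (v ^ j)⁻¹ := by
        rw [eq_mul_inv_iff_mul_eq, mul_assoc, e1, inv_mul_cancel_left]
      have e3 := hdisj hL hL1 (Ne.symm hne01) _ (mul_mem (inv_mem (pow_mem hu l)) (pow_mem hu i))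
        (e2 ▸ mul_mem (pow_mem hv l) (inv_mem (pow_mem hv j)))
      have e4 : (l : ZMod q) = i := (pow_congr hexp hu1).mp (inv_mul_eq_one.mp e3)
      have e5 : (l : ZMod q) = j := (pow_congr hexp hv1).mp (mul_inv_eq_one.mp (e2.symm.trans e3))
      rw [pow_two]
      calc (i : ZMod q) * i = i * j := by rw [← e5, e4]
        _ = 1 := hij
  -- an element of odd order
  obtain ⟨e, he⟩ := hD ⟨c, hc⟩
  have hce : c ^ (r ^ e) = 1 := congrArg Subtype.val he
  have hir : (i : ZMod q) ^ (r ^ e) = 1 := by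
    have h1 := pow_iterate c (hiL x hxL) (r ^ e)
    rw [hce, MulAut.one_apply] at h1
    have h2 := (pow_congr hexp hx).mp (((pow_one x).trans h1).symm)
    push_cast at h2
    exact h2
  have hi1 : (i : ZMod q) = 1 := by
    obtain ⟨k, hk⟩ := ((hr.odd_of_ne_two hr2).pow : Odd (r ^ e))
    rw [hk, pow_succ, pow_mul, hi2, one_pow, one_mul] at hir
    exact hir
  have hj1 : (j : ZMod q) = 1 := by rw [hi1, one_mul] at hij; exact hij
  refine MulEquiv.ext fun z => ?_
  obtain ⟨u, hu, v, hv, rfl⟩ := hdec z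
  have hfix : ∀ {w : V} {k : ℕ}, (k : ZMod q) = 1 → w ^ k = w := by
    intro w k hk
    rcases eq_or_ne w 1 with rfl | hw
    · exact one_pow _
    · conv_rhs => rw [← pow_one w]
      exact (pow_congr hexp hw).mpr (by rw [hk, Nat.cast_one])
  rw [MulAut.one_apply, map_mul, hiL u hu, hjL v hv, hfix hi1, hfix hj1]

end Plane

end Cfsg.Agent.GrossTwo
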